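import Cfsg.Agent.Lib.OrthMult.Step
import Cfsg.Agent.Lib.Linear.OrthForms
import Cfsg.Agent.Lib.Linear.OrthSpinor

/-!
# Words of reflections of the eight-dimensional minus space over three elements
-/

set_option autoImplicit false
set_option linter.unusedSectionVars false
set_option maxRecDepth 20000

namespace Cfsg.Lib.OrthMult.Three

open Cfsg.Lib.Linear.Orth
open scoped Matrix

/-- The coordinates. -/
abbrev I8 := (Fin 3 ⊕ Fin 3) ⊕ Fin 2

/-- The space. -/
abbrev Vt := I8 → ZMod 3

/-- The form of minus type. -/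
abbrev Qt : Vt → ZMod 3 := Cfsg.quadFormMinus 3 (ZMod 3) 0 1

theorem aniso_plane : ∀ z₁ z₂ : ZMod 3, z₁ ^ 2 + 0 * z₁ * z₂ + 1 * z₂ ^ 2 = 0 → z₁ = 0 ∧ z₂ = 0 := by
  decide

/-- The polar form as a bilinear form. -/
noncomputable def Bt : LinearMap.BilinForm (ZMod 3) Vt := (exists_space_minus 3 0 1 aniso_plane).choose

theorem space_t : Space Qt Bt := (exists_space_minus 3 0 1 aniso_plane).choose_spec

theorem two_ne : (2 : ZMod 3) ≠ 0 := by decide

theorem card_I8 : Fintype.card I8 = 8 := by simp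

/-- The computable polar form. -/
def pb (u v : Vt) : ZMod 3 := Qt (u + v) - Qt u - Qt v

theorem Bt_apply (u v : Vt) : Bt u v = pb u v := (space_t.polar u v).symm

/-- The computable reflection; a non-zero element is its own inverse. -/
def rf (v x : Vt) : Vt := x - (Qt v * pb v x) • v

/-- The action of a word of reflections. -/
def wAct (l : List Vt) (x : Vt) : Vt := l.foldr rf x

/-- All letters are non-singular. -/
def nsB (l : List Vt) : Bool := l.all fun v => Qt v != 0

/-- Consecutive letters have the same non-zero norm. -/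
def pairB : List Vt → Bool
  | [] => true
  | [_] => false
  | v :: w :: l => Qt v != 0 && Qt v == Qt w && pairB l

theorem nsB_cons {v : Vt} {l : List Vt} : nsB (v :: l) = true ↔ Qt v ≠ 0 ∧ nsB l = true := by
  simp [nsB]

theorem nsB_append {l l' : List Vt} : nsB (l ++ l') = true ↔ nsB l = true ∧ nsB l' = true := by
  simp [nsB]

theorem nsB_of_pairB : ∀ {l : List Vt}, pairB l = true → nsB l = true
  | [], _ => rfl
  | [_], h => by simp [pairB] at h
  | v :: w :: l, h => by
    simp only [pairB, Bool.and_eq_true, bne_iff_ne, ne_eq, beq_iff_eq] at h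
    exact nsB_cons.2 ⟨h.1.1, nsB_cons.2 ⟨h.1.2 ▸ h.1.1, nsB_of_pairB h.2⟩⟩

/-- The element of a word of reflections. -/
noncomputable def wGL (l : List Vt) : GL I8 (ZMod 3) := (l.map (rGL Qt)).prod

theorem wGL_nil : wGL [] = 1 := rfl

theorem wGL_cons (v : Vt) (l : List Vt) : wGL (v :: l) = rGL Qt v * wGL l := List.prod_cons

theorem wGL_append (l l' : List Vt) : wGL (l ++ l') = wGL l * wGL l' := by
  simp [wGL]

theorem self_inverse : ∀ c : ZMod 3, c ≠ 0 → c⁻¹ = c := fun c hc =>
  inv_eq_of_mul_eq_one_right ((by decide : ∀ c : ZMod 3, c ≠ 0 → c * c = 1) c hc)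

theorem rGL_rf {v : Vt} (hv : Qt v ≠ 0) (x : Vt) : (rGL Qt v).val *ᵥ x = rf v x := by
  rw [rGL_act space_t hv, self_inverse _ hv, Bt_apply, rf]

theorem wGL_act : ∀ {l : List Vt}, nsB l = true → ∀ x, (wGL l).val *ᵥ x = wAct l x
  | [], _, x => by rw [wGL_nil, Units.val_one, Matrix.one_mulVec]; rfl
  | v :: l, h, x => by
    obtain ⟨hv, hl⟩ := nsB_cons.1 h
    rw [wGL_cons, mul_act, wGL_act hl, rGL_rf hv]
    rfl

/-- Two words act alike on the basis. -/
def sameW (l l' : List Vt) : Bool :=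
  nsB l && nsB l' && decide (∀ i : I8, wAct l (Pi.single i 1) = wAct l' (Pi.single i 1))

theorem wGL_eq {l l' : List Vt} (h : sameW l l' = true) : wGL l = wGL l' := by
  simp only [sameW, Bool.and_eq_true, decide_eq_true_eq] at h
  obtain ⟨⟨hl, hl'⟩, he⟩ := h
  refine Units.ext (Matrix.ext_of_mulVec_single fun i => ?_)
  rw [wGL_act hl, wGL_act hl', he i]

theorem wGL_mem : ∀ {l : List Vt}, pairB l = true → wGL l ∈ Root Qt Bt ⊤
  | [], _ => one_mem _
  | [_], h => by simp [pairB] at h
  | v :: w :: l, h => by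
    simp only [pairB, Bool.and_eq_true, bne_iff_ne, ne_eq, beq_iff_eq] at h
    obtain ⟨⟨hv, hvw⟩, hl⟩ := h
    rw [wGL_cons, wGL_cons, ← mul_assoc]
    refine mul_mem ?_ (wGL_mem hl)
    have hw : Qt w ≠ 0 := hvw ▸ hv
    rw [← omegaGL_eq space_t (by rw [card_I8]; norm_num)]
    exact ⟨rI space_t v hv * rI space_t w hw,
      rI_mul_mem_comm space_t (Or.inr (by rw [card_I8]; norm_num)) hv hw
        (by rw [hvw, div_self hw]; exact IsSquare.one), rfl⟩

theorem wGL_det : ∀ {l : List Vt}, nsB l = true → (wGL l).val.det = (-1) ^ l.length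
  | [], _ => by simp [wGL_nil]
  | v :: l, h => by
    obtain ⟨hv, hl⟩ := nsB_cons.1 h
    rw [wGL_cons, Units.val_mul, Matrix.det_mul, rGL_det space_t hv, wGL_det hl, List.length_cons,
      pow_succ']

/-- The position of a coordinate. -/
def cpos : I8 → ℕ := Sum.elim (Sum.elim (fun i => (i : ℕ)) (fun i => 3 + i)) fun i => 6 + i

/-- The vector of a code in base three. -/
def rv (n : ℕ) : Vt := fun i => ((n / 3 ^ cpos i % 3 : ℕ) : ZMod 3)

/-- A basis vector. -/
def ee (i : Fin 3) : Vt := Pi.single (Sum.inl (Sum.inl i)) 1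

/-- The partner of a basis vector. -/
def ff (i : Fin 3) : Vt := Pi.single (Sum.inl (Sum.inr i)) 1

/-- The basis of the anisotropic plane. -/
def zz (i : Fin 2) : Vt := Pi.single (Sum.inr i) 1

end Cfsg.Lib.OrthMult.Three
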