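import Cfsg.Agent.Lib.OrthMult.Three.Frame
import Cfsg.Agent.Lib.OrthMult.Index

/-!
# Canonical lifts of an abelian group of Siegel elements

An involution inverting the group picks one lift of each element among the lifts of order dividing three.
-/

set_option autoImplicit false
set_option linter.unusedSectionVars false
set_option maxRecDepth 20000

namespace Cfsg.Lib.OrthMult.Three

open Cfsg.Lib.Linear.Orth
open Cfsg.Lib.OrthMult
open scoped Matrix commutatorElement

/-- The data of a group of Siegel elements at a singular vector. -/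
structure Lvl where
  n : ℕ
  e : Vt
  f : Vt
  ws : Fin n → Vt
  z : List Vt
  flip : Fin n → Fin n → Vt

/-- A generator. -/
def Lvl.gen (L : Lvl) (i : Fin L.n) : List Vt := [L.ws i, L.ws i + Qt (L.ws i) • L.e]

/-- The linear combination of the vectors. -/
def Lvl.vec (L : Lvl) (c : Fin L.n → ZMod 3) : Vt := ∑ i, c i • L.ws i

/-- A product of powers of the generators, from a code. -/
def Lvl.comb (L : Lvl) (code : ℕ) : List Vt :=
  (List.finRange L.n).flatMap fun i : Fin L.n => (List.replicate (code / 3 ^ (i : ℕ) % 3) (L.gen i)).flatten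

/-- The checked properties of a level. -/
structure Lvl.Ok (L : Lvl) : Prop where
  he : Qt L.e = 0
  hf : pb L.e L.f = 1
  hew : ∀ i, pb L.e (L.ws i) = 0
  hfw : ∀ i, pb L.f (L.ws i) = 0
  hws : ∀ i, Qt (L.ws i) ≠ 0
  hgen : ∀ i, pairB (L.gen i) = true
  hz : pairB L.z = true
  hzz : sameW (L.z ++ L.z) [] = true
  hzg : ∀ i, sameW (L.z ++ L.gen i) ((L.gen i).reverse ++ L.z) = true
  hcube : ∀ i, sameW (L.gen i ++ L.gen i ++ L.gen i) [] = true
  hflip : ∀ i j, i ≠ j → pairB [L.ws i, L.flip i j] = true ∧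
    sameW ([L.ws i, L.flip i j] ++ L.gen i) ((L.gen i).reverse ++ [L.ws i, L.flip i j]) = true ∧
    sameW ([L.ws i, L.flip i j] ++ L.gen j) (L.gen j ++ [L.ws i, L.flip i j]) = true
  hcomm : ∀ i j, sameW (L.gen i ++ L.gen j) (L.gen j ++ L.gen i) = true
  hinj : ∀ c : Fin L.n → ZMod 3, L.vec c = 0 → c = 0

theorem wGL_reverse : ∀ {l : List Vt}, nsB l = true → wGL l.reverse = (wGL l)⁻¹
  | [], _ => by simp [wGL_nil]
  | v :: l, h => by
    obtain ⟨hv, hl⟩ := nsB_cons.1 h
    rw [List.reverse_cons, wGL_append, wGL_cons, wGL_cons, wGL_nil, mul_one, wGL_reverse hl, mul_inv_rev,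
      rGL_inv space_t hv]

theorem pairB_append : ∀ {l l' : List Vt}, pairB l = true → pairB l' = true → pairB (l ++ l') = true
  | [], _, _, h' => h'
  | [_], _, h, _ => by simp [pairB] at h
  | v :: w :: l, l', h, h' => by
    simp only [pairB, Bool.and_eq_true] at h
    simp only [List.cons_append, pairB, Bool.and_eq_true]
    exact ⟨h.1, pairB_append h.2 h'⟩

variable {L : Lvl}

theorem Lvl.Ok.sing_e (O : L.Ok) (i : Fin L.n) : Bt L.e (L.ws i) = 0 := by
  rw [Bt_apply]; exact O.hew i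

theorem Lvl.Ok.e_vec (O : L.Ok) (c : Fin L.n → ZMod 3) : Bt L.e (L.vec c) = 0 := by
  simp [Lvl.vec, map_sum, O.sing_e]

theorem Lvl.Ok.f_vec (O : L.Ok) (c : Fin L.n → ZMod 3) : Bt L.f (L.vec c) = 0 := by
  simp [Lvl.vec, map_sum, Bt_apply, O.hfw]

theorem Lvl.Ok.gen_eq (O : L.Ok) (i : Fin L.n) : wGL (L.gen i) = sGL Qt Bt L.e (L.ws i) := by
  rw [Lvl.gen, wGL_cons, wGL_cons, wGL_nil, mul_one]
  exact (rGL_mul_rGL space_t (O.hws i) O.he (O.sing_e i)).2

/-- The Siegel elements of the combinations. -/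
noncomputable def Lvl.Ok.phi (O : L.Ok) : Multiplicative (Fin L.n → ZMod 3) →* GL I8 (ZMod 3) :=
  MonoidHom.mk' (fun c => sGL Qt Bt L.e (L.vec (Multiplicative.toAdd c))) fun c d => by
    rw [sGL_mul space_t O.he (O.e_vec _) (O.e_vec _)]
    congr 1
    simp [Lvl.vec, add_smul, Finset.sum_add_distrib]

theorem Lvl.Ok.phi_single (O : L.Ok) (i : Fin L.n) :
    O.phi (Multiplicative.ofAdd (Pi.single i 1)) = wGL (L.gen i) := by
  rw [O.gen_eq]
  show sGL Qt Bt L.e (L.vec (Pi.single i 1)) = _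
  congr 1
  simp [Lvl.vec, Pi.single_apply]

theorem Lvl.Ok.phi_f (O : L.Ok) (c : Fin L.n → ZMod 3) :
    (O.phi (Multiplicative.ofAdd c)).val *ᵥ L.f = L.f + L.vec c - Qt (L.vec c) • L.e := by
  show (sGL Qt Bt L.e (L.vec c)).val *ᵥ L.f = _
  rw [sGL_act space_t O.he (O.e_vec c), show Bt L.e L.f = 1 by rw [Bt_apply]; exact O.hf,
    space_t.symm (L.vec c) L.f, O.f_vec, one_smul, zero_add, mul_one]

/-- An element of the group fixing the partner of the singular vector is trivial. -/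
theorem Lvl.Ok.phi_eq_one (O : L.Ok) {c : Multiplicative (Fin L.n → ZMod 3)}
    (h : (O.phi c).val *ᵥ L.f = L.f) : c = 1 := by
  obtain ⟨c, rfl⟩ := Multiplicative.ofAdd.surjective c
  rw [O.phi_f, add_sub_assoc, add_eq_left, sub_eq_zero] at h
  have hq : Qt (L.vec c) = 0 := by
    have h' := congrArg (Bt L.f) h
    rw [O.f_vec, map_smul, space_t.symm L.f L.e, show Bt L.e L.f = 1 by rw [Bt_apply]; exact O.hf,
      smul_eq_mul, mul_one] at h'
    exact h'.symm
  rw [hq, zero_smul] at h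
  exact congrArg Multiplicative.ofAdd (O.hinj c h)

theorem Lvl.Ok.phi_injective (O : L.Ok) : Function.Injective O.phi :=
  (injective_iff_map_eq_one _).2 fun c hc => O.phi_eq_one (by rw [hc, Units.val_one, Matrix.one_mulVec])

theorem Lvl.Ok.card_range (O : L.Ok) : Nat.card O.phi.range = 3 ^ L.n := by
  rw [← Nat.card_congr (MonoidHom.ofInjective O.phi_injective).toEquiv,
    Nat.card_congr Multiplicative.toAdd, Nat.card_fun, Nat.card_zmod, Nat.card_eq_fintype_card, Fintype.card_fin]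

variable {E : Type} [Group E] [Finite E] (σ : E →* ↥(Root Qt Bt ⊤))
variable (hs : Function.Surjective σ) (hc : σ.ker ≤ Subgroup.center E)

include hs in
theorem exists_word_lift {l : List Vt} (h : pairB l = true) : ∃ e, glOf σ e = wGL l := by
  obtain ⟨e, he⟩ := hs ⟨_, wGL_mem h⟩
  exact ⟨e, congrArg Subtype.val he⟩

include hc in
theorem comm_center {a b : E} (h : glOf σ a * glOf σ b = glOf σ b * glOf σ a) :
    ⁅a, b⁆ ∈ Subgroup.center E :=
  hc (mem_ker σ (by
    rw [map_commutatorElement, commutatorElement_eq_one_iff_mul_comm]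
    exact h))

include hc in
/-- Lifts of commuting elements of orders three and two commute. -/
theorem commute_two_three {g z : E} (hgz : glOf σ g * glOf σ z = glOf σ z * glOf σ g)
    (hz : z * z ∈ Subgroup.center E) (hg : g * g * g ∈ Subgroup.center E) : g * z = z * g := by
  set c := ⁅g, z⁆ with hcdef
  have hcen : ∀ x : E, Commute x c := Subgroup.mem_center_iff.1 (comm_center σ hc hgz)
  have e1 : g * z = c * (z * g) := by rw [hcdef, commutatorElement_def]; group
  have h2 : c * c = 1 := by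
    have e : g * (z * z) = c * c * (z * z * g) := by
      calc g * (z * z) = (g * z) * z := (mul_assoc g z z).symm
        _ = c * z * (g * z) := by nth_rw 1 [e1]; group
        _ = c * (z * c) * (z * g) := by rw [e1]; group
        _ = c * (c * z) * (z * g) := by rw [(hcen z).eq]
        _ = c * c * (z * z * g) := by group
    rw [Subgroup.mem_center_iff.1 hz g] at e
    exact (right_eq_mul.1 e)
  have h3 : c * c * c = 1 := by
    have e : g * g * g * z = c * c * c * (z * (g * g * g)) := by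
      calc g * g * g * z = g * g * (g * z) := mul_assoc _ _ _
        _ = g * (g * c) * (z * g) := by rw [e1]; group
        _ = g * (c * g) * (z * g) := by rw [(hcen g).eq]
        _ = (g * c) * (g * z) * g := by group
        _ = (c * g) * (c * (z * g)) * g := by rw [(hcen g).eq, e1]
        _ = c * (g * c) * z * g * g := by group
        _ = c * (c * g) * z * g * g := by rw [(hcen g).eq]
        _ = c * c * (g * z) * g * g := by group
        _ = c * c * (c * (z * g)) * g * g := by rw [e1]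
        _ = c * c * c * (z * (g * g * g)) := by group
    rw [← Subgroup.mem_center_iff.1 hg z] at e
    exact (right_eq_mul.1 e)
  have h1 : c = 1 := by rwa [h2, one_mul] at h3
  exact commutatorElement_eq_one_iff_mul_comm.1 h1

/-- The group of canonical lifts. -/
def liftGrp (L : Lvl) (z : E) : Subgroup E :=
  Subgroup.closure {y | (∃ i, glOf σ y = wGL (L.gen i)) ∧ y * y * y = 1 ∧ z * y * z⁻¹ = y⁻¹}

include hs hc in
theorem gens_commute (O : L.Ok) {a b : E} {i j : Fin L.n} (ha : glOf σ a = wGL (L.gen i))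
    (hb : glOf σ b = wGL (L.gen j)) (ha3 : a * a * a = 1) : a * b = b * a := by
  by_cases hij : i = j
  · subst hij
    have hk : a⁻¹ * b ∈ Subgroup.center E := hc (mem_ker σ (by rw [map_mul, map_inv, ha, hb, inv_mul_cancel]))
    have h : Commute a (a⁻¹ * b) := Subgroup.mem_center_iff.1 hk a
    have h' := (Commute.refl a).mul_right h
    rwa [mul_inv_cancel_left] at h' 
  obtain ⟨hp, hfi, hfj⟩ := O.hflip i j hij
  obtain ⟨e, he⟩ := exists_word_lift σ hs hp
  have hab : glOf σ a * glOf σ b = glOf σ b * glOf σ a := by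
    rw [ha, hb, ← wGL_append, ← wGL_append]; exact wGL_eq (O.hcomm i j)
  have hcen := comm_center σ hc hab
  have hcomm := Subgroup.mem_center_iff.1 hcen
  have h1 : glOf σ (e * a * e⁻¹) = (glOf σ a)⁻¹ := by
    rw [map_mul, map_mul, map_inv, he, ha]
    have := wGL_eq hfi
    rw [wGL_append, wGL_append, wGL_reverse (nsB_of_pairB (O.hgen i))] at this
    rw [this, mul_inv_cancel_right]
  have h3 : glOf σ (e * b * e⁻¹) = glOf σ b := by
    rw [map_mul, map_mul, map_inv, he, hb]
    have := wGL_eq hfj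
    rw [wGL_append, wGL_append] at this
    rw [this, mul_inv_cancel_right]
  have hc1 : a * (e * a * e⁻¹) ∈ Subgroup.center E := hc (mem_ker σ (by rw [map_mul, h1, mul_inv_cancel]))
  have hc3 : b⁻¹ * (e * b * e⁻¹) ∈ Subgroup.center E :=
    hc (mem_ker σ (by rw [map_mul, map_inv, h3, inv_mul_cancel]))
  have hinv : ⁅a, b⁆ = ⁅a⁻¹, b⁆ := by
    calc ⁅a, b⁆ = e * ⁅a, b⁆ * e⁻¹ := by rw [hcomm e, mul_inv_cancel_right]
      _ = ⁅e * a * e⁻¹, e * b * e⁻¹⁆ := by simp only [commutatorElement_def]; group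
      _ = ⁅a⁻¹, b⁆ := by
        have h := Cfsg.Lib.Chev.comm_mul_central (a := a⁻¹) (b := b) hc1 hc3
        rwa [inv_mul_cancel_left, mul_inv_cancel_left] at h
  have hneg : ⁅a⁻¹, b⁆ = ⁅a, b⁆⁻¹ := by
    calc ⁅a⁻¹, b⁆ = a⁻¹ * ⁅a, b⁆⁻¹ * a := by simp only [commutatorElement_def]; group
      _ = ⁅a, b⁆⁻¹ := by
        rw [mul_assoc, ← Subgroup.mem_center_iff.1 (inv_mem hcen) a, inv_mul_cancel_left]
  have h2 : ⁅a, b⁆ * ⁅a, b⁆ = 1 := by
    nth_rw 1 [hinv, hneg]; exact inv_mul_cancel _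
  have hcube : ⁅a, b⁆ * ⁅a, b⁆ * ⁅a, b⁆ = 1 := by
    have e1 : ⁅a * a * a, b⁆ = a * (a * ⁅a, b⁆ * a⁻¹) * a⁻¹ * (a * ⁅a, b⁆ * a⁻¹) * ⁅a, b⁆ := by
      simp only [commutatorElement_def]; group
    rw [ha3, commutatorElement_one_left, hcomm a, mul_inv_cancel_right, hcomm a, mul_inv_cancel_right] at e1
    exact e1.symm
  have : ⁅a, b⁆ = 1 := by rwa [h2, one_mul] at hcube
  exact commutatorElement_eq_one_iff_mul_comm.1 this

include hs hc in
theorem liftGrp_props (O : L.Ok) (z : E) : ∀ y ∈ liftGrp σ L z,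
    glOf σ y ∈ O.phi.range ∧ y * y * y = 1 ∧ z * y * z⁻¹ = y⁻¹ := by
  have hset : ∀ a b : E, a ∈ liftGrp σ L z → b ∈ liftGrp σ L z → a * b = b * a := by
    intro a b ha hb
    have hcl := Subgroup.isMulCommutative_closure (k := {y | (∃ i, glOf σ y = wGL (L.gen i)) ∧ y * y * y = 1 ∧
      z * y * z⁻¹ = y⁻¹}) (fun x hx y hy => gens_commute σ hs hc O hx.1.choose_spec hy.1.choose_spec hx.2.1)
    exact congrArg Subtype.val (hcl.is_comm.comm (⟨a, ha⟩ : liftGrp σ L z) ⟨b, hb⟩)
  intro y hy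
  induction hy using Subgroup.closure_induction with
  | mem x hx =>
    obtain ⟨i, hi⟩ := hx.1
    exact ⟨⟨_, (O.phi_single i).trans hi.symm⟩, hx.2.1, hx.2.2⟩
  | one => exact ⟨by rw [map_one]; exact one_mem _, by simp, by simp⟩
  | mul a b ha hb hA hB =>
    refine ⟨by rw [map_mul]; exact mul_mem hA.1 hB.1, ?_, ?_⟩
    · have h := hset a b ha hb
      calc a * b * (a * b) * (a * b) = a * (b * a) * b * (a * b) := by group
        _ = a * (a * b) * b * (a * b) := by rw [h]
        _ = a * a * (b * b * a) * b := by group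
        _ = a * a * (b * (a * b)) * b := by rw [h]; group
        _ = a * a * ((b * a) * b) * b := by group
        _ = a * a * ((a * b) * b) * b := by rw [h]
        _ = (a * a * a) * (b * b * b) := by group
        _ = 1 := by rw [hA.2.1, hB.2.1, one_mul]
    · calc z * (a * b) * z⁻¹ = (z * a * z⁻¹) * (z * b * z⁻¹) := by group
        _ = (b * a)⁻¹ := by rw [hA.2.2, hB.2.2, mul_inv_rev]
        _ = (a * b)⁻¹ := by rw [hset a b ha hb]
  | inv a ha hA =>
    refine ⟨by rw [map_inv]; exact inv_mem hA.1, ?_, ?_⟩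
    · calc a⁻¹ * a⁻¹ * a⁻¹ = (a * a * a)⁻¹ := by group
        _ = 1 := by rw [hA.2.1, inv_one]
    · calc z * a⁻¹ * z⁻¹ = (z * a * z⁻¹)⁻¹ := by group
        _ = a⁻¹⁻¹ := by rw [hA.2.2]

include hs hc in
theorem liftGrp_ker (O : L.Ok) (z : E) {y : E} (hy : y ∈ liftGrp σ L z) (h : glOf σ y = 1) : y = 1 := by
  obtain ⟨-, h3, hz⟩ := liftGrp_props σ hs hc O z y hy
  rw [Subgroup.mem_center_iff.1 (hc (mem_ker σ h)) z, mul_inv_cancel_right] at hz
  have h2 : y * y = 1 := by nth_rw 1 [hz]; exact inv_mul_cancel y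
  rwa [h2, one_mul] at h3

include hs hc in
theorem liftGrp_map (O : L.Ok) {z : E} (hz : glOf σ z = wGL L.z) :
    (liftGrp σ L z).map (glOf σ) = O.phi.range := by
  refine le_antisymm ?_ ?_
  · rintro _ ⟨y, hy, rfl⟩
    exact (liftGrp_props σ hs hc O z y hy).1
  have hgen : ∀ i, wGL (L.gen i) ∈ (liftGrp σ L z).map (glOf σ) := fun i => by
    obtain ⟨y, hy⟩ := exists_word_lift σ hs (O.hgen i)
    have hzz : z * z ∈ Subgroup.center E := hc (mem_ker σ (by
      rw [map_mul, hz, ← wGL_append, wGL_eq O.hzz, wGL_nil]))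
    have hy3 : y * y * y ∈ Subgroup.center E := hc (mem_ker σ (by
      rw [map_mul, map_mul, hy, ← wGL_append, ← wGL_append, wGL_eq (O.hcube i), wGL_nil]))
    have hzy : glOf σ (z * y * z⁻¹) = (glOf σ y)⁻¹ := by
      rw [map_mul, map_mul, map_inv, hz, hy, ← wGL_append, wGL_eq (O.hzg i), wGL_append,
        wGL_reverse (nsB_of_pairB (O.hgen i)), mul_inv_cancel_right]
    set u := y * (z * y⁻¹ * z⁻¹) with hu
    have hug : glOf σ u = wGL (L.gen i) * wGL (L.gen i) := by
      rw [hu, show z * y⁻¹ * z⁻¹ = (z * y * z⁻¹)⁻¹ by group, map_mul, map_inv, hzy, inv_inv, hy]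
    have hc' : y * (z * y * z⁻¹) ∈ Subgroup.center E := hc (mem_ker σ (by rw [map_mul, hzy, mul_inv_cancel]))
    have hcy : y * (z * y⁻¹ * z⁻¹) = (z * y⁻¹ * z⁻¹) * y := by
      have e : z * y⁻¹ * z⁻¹ = (y * (z * y * z⁻¹))⁻¹ * y := by group
      rw [e, ← mul_assoc, Subgroup.mem_center_iff.1 (inv_mem hc') y]
    have hu3 : u * u * u = 1 := by
      calc u * u * u = y * ((z * y⁻¹ * z⁻¹) * y) * ((z * y⁻¹ * z⁻¹) * y) * (z * y⁻¹ * z⁻¹) := by rw [hu]; group
        _ = y * (y * (z * y⁻¹ * z⁻¹)) * (y * (z * y⁻¹ * z⁻¹)) * (z * y⁻¹ * z⁻¹) := by rw [← hcy]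
        _ = y * y * ((z * y⁻¹ * z⁻¹) * y) * ((z * y⁻¹ * z⁻¹) * (z * y⁻¹ * z⁻¹)) := by group
        _ = y * y * (y * (z * y⁻¹ * z⁻¹)) * ((z * y⁻¹ * z⁻¹) * (z * y⁻¹ * z⁻¹)) := by rw [hcy]
        _ = (y * y * y) * (z * (y * y * y)⁻¹ * z⁻¹) := by group
        _ = 1 := by rw [Subgroup.mem_center_iff.1 (inv_mem hy3) z, mul_inv_cancel_right, mul_inv_cancel]
    have huz : z * u * z⁻¹ = u⁻¹ := by
      calc z * u * z⁻¹ = (z * y * z⁻¹) * ((z * z) * y⁻¹ * (z * z)⁻¹) := by rw [hu]; group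
        _ = (z * y * z⁻¹) * y⁻¹ := by rw [← Subgroup.mem_center_iff.1 hzz y⁻¹, mul_inv_cancel_right]
        _ = u⁻¹ := by rw [hu]; group
    have himg : glOf σ (u * u) = wGL (L.gen i) := by
      have h3 : wGL (L.gen i) * wGL (L.gen i) * wGL (L.gen i) = 1 := by
        rw [← wGL_append, ← wGL_append, wGL_eq (O.hcube i), wGL_nil]
      rw [map_mul, hug]
      calc _ = (wGL (L.gen i) * wGL (L.gen i) * wGL (L.gen i)) * wGL (L.gen i) := by group
        _ = _ := by rw [h3, one_mul]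
    refine ⟨u * u, Subgroup.subset_closure ⟨⟨i, himg⟩, ?_, ?_⟩, himg⟩
    · calc u * u * (u * u) * (u * u) = (u * u * u) * (u * u * u) := by group
        _ = 1 := by rw [hu3, one_mul]
    · calc z * (u * u) * z⁻¹ = (z * u * z⁻¹) * (z * u * z⁻¹) := by group
        _ = (u * u)⁻¹ := by rw [huz, mul_inv_rev u u]
  have key : ∀ c : Fin L.n → ZMod 3, Multiplicative.ofAdd c ∈ ((liftGrp σ L z).map (glOf σ)).comap O.phi := by
    intro c
    rw [← Finset.univ_sum_single c, ofAdd_sum]
    refine Subgroup.prod_mem _ fun i _ => ?_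
    rw [show Pi.single i (c i) = (c i).val • (Pi.single i 1 : Fin L.n → ZMod 3) by
      rw [← Pi.single_smul, nsmul_eq_mul, mul_one, ZMod.natCast_zmod_val], ofAdd_nsmul]
    refine Subgroup.pow_mem _ ?_ _
    rw [Subgroup.mem_comap, O.phi_single]
    exact hgen i
  rintro _ ⟨c, rfl⟩
  obtain ⟨c, rfl⟩ := Multiplicative.ofAdd.surjective c
  exact key c

end Cfsg.Lib.OrthMult.Three
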