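import Cfsg.Agent.Lib.OrthMult.Three.Sp
import Cfsg.Agent.Lib.OrthMult.Index
import Cfsg.Agent.S0288

/-!
# The kernel has order at most two once it has no element of odd prime order
-/

set_option autoImplicit false
set_option linter.unusedSectionVars false
set_option maxRecDepth 20000

namespace Cfsg.Lib.OrthMult.Three

open Module
open Cfsg.Lib.Linear.Orth
open Cfsg.Lib.OrthMult
open scoped Matrix commutatorElement

/-- The order of the group. -/
theorem card_root : Nat.card ↥(Root Qt Bt ⊤) = 3 ^ 12 * 41 * 2 ^ 10 * 455 := by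
  rw [← Nat.card_congr (omegaEquiv space_t (by rw [card_I8]; norm_num)).toEquiv]
  have h : Nat.card ↥(Cfsg.isometryGroup (ZMod 3) Qt) = 2 * 3 ^ (4 * (4 - 1)) * (3 ^ 4 + 1) *
      ∏ i ∈ Finset.range (4 - 1), (3 ^ (2 * (i + 1)) - 1) :=
    Cfsg.Agent.S0288.result (F := ZMod 3) (q := 3) (by simp) 4 (by norm_num) 0 1 aniso_plane
  have hi : (Cfsg.Omega (ZMod 3) Qt).index = 4 := (omega_odd space_t two_ne (by rw [card_I8]; norm_num)).2.1
  have h4 := (Cfsg.Omega (ZMod 3) Qt).card_mul_index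
  rw [hi, h] at h4
  norm_num [Finset.prod_range_succ] at h4 ⊢
  omega

/-- The perpendicular of the fixed vector. -/
noncomputable abbrev px : Submodule (ZMod 3) Vt := perp1 Bt x0

theorem x0_ndeg : NDeg Bt (Submodule.span (ZMod 3) {x0}) :=
  ndeg_one space_t two_ne x0_norm.1 rfl

theorem px_finrank : finrank (ZMod 3) px = 7 := by
  have h1 : finrank (ZMod 3) (orth Bt (Submodule.span (ZMod 3) {x0})) +
      finrank (ZMod 3) (Submodule.span (ZMod 3) {x0}) = Fintype.card I8 := orth_finrank space_t x0_ndeg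
  have h2 : finrank (ZMod 3) (Submodule.span (ZMod 3) {x0}) = 1 :=
    finrank_one space_t two_ne x0_norm.1 rfl
  rw [h2, card_I8] at h1
  show finrank (ZMod 3) (orth Bt (Submodule.span (ZMod 3) {x0})) = 7
  omega

theorem mem_px_root {g : GL I8 (ZMod 3)} (hg : g ∈ Root Qt Bt ⊤) (hfix : g.val *ᵥ x0 = x0) :
    g ∈ Root Qt Bt px := by
  refine mem_root_orth space_t two_ne x0_ndeg ?_ hg fun y hy => ?_
  · have := px_finrank
    exact le_trans (by norm_num) this.ge
  · obtain ⟨t, rfl⟩ := Submodule.mem_span_singleton.1 hy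
    rw [Matrix.mulVec_smul, hfix]

theorem px_root_fix {g : GL I8 (ZMod 3)} (hg : g ∈ Root Qt Bt px) : g.val *ᵥ x0 = x0 :=
  root_fix space_t hg (Submodule.mem_span_singleton_self x0)

theorem px_perfect : ⁅Root Qt Bt px, Root Qt Bt px⁆ = Root Qt Bt px :=
  root_perfect space_t (split_orth space_t x0_ndeg) (Or.inl px_finrank.ge)

theorem WGrp_le_px : WGrp ≤ Root Qt Bt px := fun _ hw => mem_px_root (WGrp_le_root hw) (WGrp_fix hw)

/-- The stabiliser of the fixed vector. -/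
noncomputable def fixGrp : Subgroup ↥(Root Qt Bt ⊤) := (Root Qt Bt px).subgroupOf (Root Qt Bt ⊤)

/-- The stabiliser of the line of the fixed vector. -/
noncomputable def lineGrp : Subgroup ↥(Root Qt Bt ⊤) where
  carrier := {g | (g : GL I8 (ZMod 3)).val *ᵥ x0 = x0 ∨ (g : GL I8 (ZMod 3)).val *ᵥ x0 = -x0}
  one_mem' := Or.inl (by rw [OneMemClass.coe_one, Units.val_one, Matrix.one_mulVec])
  mul_mem' := by
    intro a b ha hb
    show _ ∨ _
    rcases ha with ha | ha <;> rcases hb with hb | hb <;>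
      simp [← Matrix.mulVec_mulVec, ha, hb, Matrix.mulVec_neg]
  inv_mem' := by
    intro a ha
    show _ ∨ _
    rcases ha with ha | ha <;> have h := inv_act (a : GL I8 (ZMod 3)) x0 <;> rw [ha] at h
    · exact Or.inl h
    · rw [Matrix.mulVec_neg, neg_eq_iff_eq_neg] at h
      exact Or.inr h

/-- An element negating the fixed vector. -/
def negWord : List Vt := [x0, ee 1 - ff 1]

theorem neg_facts : pairB negWord = true ∧ wAct negWord x0 = -x0 := by decide +kernel

theorem x0_ne_neg : x0 ≠ -x0 := by decide +kernel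

theorem index_parity : Odd lineGrp.index ∧ Odd (WGrp.subgroupOf (Root Qt Bt px)).index := by
  have hle : fixGrp ≤ lineGrp := fun g hg => Or.inl (px_root_fix (Subgroup.mem_subgroupOf.1 hg))
  have hi2 : (fixGrp.subgroupOf lineGrp).index = 2 := by
    refine Subgroup.index_eq_two_iff.2 ⟨⟨⟨wGL negWord, wGL_mem neg_facts.1⟩, Or.inr (by
      rw [wGL_act (nsB_of_pairB neg_facts.1)]; exact neg_facts.2)⟩, fun b => ?_⟩
    have hmem : ∀ c : lineGrp, c ∈ fixGrp.subgroupOf lineGrp ↔ (c.1 : GL I8 (ZMod 3)).val *ᵥ x0 = x0 := fun c =>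
      ⟨fun h => px_root_fix h, fun h => mem_px_root c.1.2 h⟩
    rw [hmem, hmem, Subgroup.coe_mul, Subgroup.coe_mul, mul_act, wGL_act (nsB_of_pairB neg_facts.1), neg_facts.2,
      Matrix.mulVec_neg]
    rcases b.2 with h | h <;> rw [h]
    · exact Or.inr ⟨rfl, fun h => x0_ne_neg h.symm⟩
    · exact Or.inl ⟨neg_neg x0, fun h => x0_ne_neg h.symm⟩
  have h1 := (fixGrp.subgroupOf lineGrp).card_mul_index
  rw [hi2, Nat.card_congr (Subgroup.subgroupOfEquivOfLe hle).toEquiv] at h1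
  have h2 : Nat.card fixGrp = Nat.card ↥(Root Qt Bt px) :=
    Nat.card_congr (Subgroup.subgroupOfEquivOfLe (root_mono le_top)).toEquiv
  have h3 := lineGrp.card_mul_index
  have h4 := (WGrp.subgroupOf (Root Qt Bt px)).card_mul_index
  rw [Nat.card_congr (Subgroup.subgroupOfEquivOfLe WGrp_le_px).toEquiv, card_WGrp] at h4
  rw [← h1, h2, ← h4, card_root] at h3
  have h5 : (WGrp.subgroupOf (Root Qt Bt px)).index * lineGrp.index * 2835 = 3 ^ 12 * 41 * 455 := by
    nlinarith [h3]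
  have h6 : Odd ((WGrp.subgroupOf (Root Qt Bt px)).index * lineGrp.index * 2835) := by
    rw [h5]; decide
  obtain ⟨h7, h8⟩ := Nat.odd_mul.1 (Nat.odd_mul.1 h6).1
  exact ⟨h8, h7⟩

variable {E : Type} [Group E] [Finite E] (σ : E →* ↥(Root Qt Bt ⊤))

theorem lineGrp_comm_le (hs : Function.Surjective σ) (hc : σ.ker ≤ Subgroup.center E) :
    ⁅lineGrp.comap σ, lineGrp.comap σ⁆ ≤ der σ px := by
  obtain ⟨s, hsg⟩ := hs ⟨wGL negWord, wGL_mem neg_facts.1⟩
  have hsx : (glOf σ s).val *ᵥ x0 = -x0 := by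
    show ((σ s : ↥(Root Qt Bt ⊤)) : GL I8 (ZMod 3)).val *ᵥ x0 = -x0
    rw [hsg]
    show (wGL negWord).val *ᵥ x0 = -x0
    rw [wGL_act (nsB_of_pairB neg_facts.1)]; exact neg_facts.2
  set D := der σ px with hD
  have hnorm : ∀ e : E, ((glOf σ e).val *ᵥ x0 = x0 ∨ (glOf σ e).val *ᵥ x0 = -x0) → ∀ d ∈ D, e * d * e⁻¹ ∈ D := by
    intro e he d hd
    refine conj_der σ space_t e (fun u hu => ?_) hd
    refine mem_orth_span.2 fun y hy => ?_
    obtain rfl := Set.mem_singleton_iff.1 hy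
    have hu' : Bt x0 u = 0 := mem_orth_span.1 hu _ (Set.mem_singleton x0)
    have h := space_t.B_act (glOf_mem σ space_t e) x0 u
    rw [hu'] at h
    rcases he with he | he <;> rw [he] at h
    · exact h
    · rwa [map_neg, LinearMap.neg_apply, neg_eq_zero] at h
  have hform : ∀ h ∈ lineGrp.comap σ, ∃ d ∈ D, ∃ z ∈ Subgroup.center E, ∃ i : ℕ, h = d * z * s ^ i := by
    intro h hh
    have key : ∀ e : E, (glOf σ e).val *ᵥ x0 = x0 → ∃ d ∈ D, ∃ z ∈ Subgroup.center E, e = d * z := fun e he => by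
      obtain ⟨d, hd, hde⟩ := exists_der σ hs px_perfect (mem_px_root (σ e).2 he)
      exact ⟨d, hd, d⁻¹ * e, hc (mem_ker σ (by rw [map_mul, map_inv, hde]; exact inv_mul_cancel _)),
        (mul_inv_cancel_left d e).symm⟩
    rcases hh with hh | hh
    · obtain ⟨d, hd, z, hz, e⟩ := key h hh
      exact ⟨d, hd, z, hz, 0, by rw [pow_zero, mul_one]; exact e⟩
    · obtain ⟨d, hd, z, hz, e⟩ := key (h * s⁻¹) (by
        have hsi : (glOf σ s)⁻¹.val *ᵥ x0 = -x0 := by
          have h' := inv_act (glOf σ s) x0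
          rw [hsx, Matrix.mulVec_neg, neg_eq_iff_eq_neg] at h'
          exact h'
        rw [map_mul, map_inv, mul_act, hsi, Matrix.mulVec_neg,
          show (glOf σ h).val *ᵥ x0 = -x0 from hh, neg_neg])
      exact ⟨d, hd, z, hz, 1, by rw [pow_one, ← e, inv_mul_cancel_right]⟩
  rw [Subgroup.commutator_le]
  intro a ha b hb
  obtain ⟨d, hd, z, hz, i, rfl⟩ := hform a ha
  obtain ⟨d', hd', z', hz', j, rfl⟩ := hform b hb
  have hzc : z * s ^ i = s ^ i * z := (Subgroup.mem_center_iff.1 hz _).symm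
  have hzc' : z' * s ^ j = s ^ j * z' := (Subgroup.mem_center_iff.1 hz' _).symm
  have e1 : ⁅d * z * s ^ i, d' * z' * s ^ j⁆ = ⁅d * s ^ i, d' * s ^ j⁆ := by
    rw [mul_assoc d, hzc, ← mul_assoc, mul_assoc d', hzc', ← mul_assoc]
    exact Cfsg.Lib.Chev.comm_mul_central hz hz'
  have hpow : ∀ k : ℕ, ∀ x ∈ D, s ^ k * x * (s ^ k)⁻¹ ∈ D := fun k => by
    induction k with
    | zero => intro x hx; simpa using hx
    | succ k ih =>
      intro x hx
      have := hnorm s (Or.inr hsx) _ (ih x hx)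
      convert this using 1
      group
  rw [e1]
  have e2 : ⁅d * s ^ i, d' * s ^ j⁆ = d * (s ^ i * d' * (s ^ i)⁻¹) * (s ^ j * d⁻¹ * (s ^ j)⁻¹) * d'⁻¹ := by
    rw [commutatorElement_def]
    have e3 : (s ^ i)⁻¹ * (s ^ j)⁻¹ = (s ^ j)⁻¹ * (s ^ i)⁻¹ := by
      rw [← mul_inv_rev, ← mul_inv_rev, ← pow_add, ← pow_add, Nat.add_comm]
    calc d * s ^ i * (d' * s ^ j) * (d * s ^ i)⁻¹ * (d' * s ^ j)⁻¹
        = d * (s ^ i * d' * s ^ j) * ((s ^ i)⁻¹ * d⁻¹) * ((s ^ j)⁻¹ * d'⁻¹) := by group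
      _ = d * (s ^ i * d' * (s ^ i)⁻¹) * (s ^ i * s ^ j * (s ^ i)⁻¹) * d⁻¹ * ((s ^ j)⁻¹ * d'⁻¹) := by group
      _ = d * (s ^ i * d' * (s ^ i)⁻¹) * (s ^ j) * d⁻¹ * ((s ^ j)⁻¹ * d'⁻¹) := by
          rw [← pow_add, Nat.add_comm, pow_add, mul_inv_cancel_right]
      _ = _ := by group
  rw [e2]
  exact mul_mem (mul_mem (mul_mem hd (hpow i d' hd')) (hpow j _ (inv_mem hd))) (inv_mem hd')

theorem card_ker_le_two (hσ : Cfsg.IsStemExtension σ)
    (hodd : ∀ p : ℕ, p.Prime → p ≠ 2 → ∀ k ∈ σ.ker, orderOf k ≠ p) : Nat.card σ.ker ≤ 2 := by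
  obtain ⟨hs, hc, hd⟩ := hσ
  have hcop : ∀ n : ℕ, Odd n → ∀ k ∈ σ.ker, Nat.Coprime (orderOf k) n := fun n hn k hk => by
    refine Nat.coprime_of_dvd fun p hp hpk hpn => ?_
    by_cases h2 : p = 2
    · subst h2; exact (Nat.not_even_iff_odd.2 hn) (even_iff_two_dvd.2 hpn)
    · obtain ⟨r, hr⟩ := hpk
      have hpos := orderOf_pos k
      refine hodd p hp h2 (k ^ r) (σ.ker.pow_mem hk r) ?_
      have hr0 : r ≠ 0 := fun h => by rw [h, mul_zero] at hr; omega
      rw [orderOf_pow' k hr0, hr, Nat.gcd_eq_right (Dvd.intro_left p rfl), Nat.mul_div_cancel _ (Nat.pos_of_ne_zero hr0)]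
  have hin : ∀ k ∈ σ.ker, k ∈ der σ px := fun k hk =>
    lineGrp_comm_le σ hs hc (mem_comm_of_index σ hs hc lineGrp hk (hd hk) (hcop _ index_parity.1 k hk))
  have hst := derHom_stem σ hs hc px_perfect
  have hle : Nat.card (derHom σ px).ker ≤ 2 := by
    refine card_ker_le_of_perfect (derHom σ px) hst (WGrp.subgroupOf (Root Qt Bt px)) ?_
      (stemLeTwo_WGrp.of_equiv (Subgroup.subgroupOfEquivOfLe WGrp_le_px).symm) fun k hk => ?_
    · refine Subgroup.map_injective (Root Qt Bt px).subtype_injective ?_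
      rw [Subgroup.map_commutator, Subgroup.map_subgroupOf_eq_of_le WGrp_le_px, perfect_WGrp]
    · have h := hcop _ index_parity.2 (k : E) (mem_ker σ (congrArg Subtype.val hk))
      rwa [Subgroup.orderOf_coe] at h
  refine le_trans (le_of_eq (Nat.card_congr
    { toFun := fun k => ⟨⟨k.1, hin _ k.2⟩, Subtype.ext (congrArg Subtype.val k.2 :)⟩
      invFun := fun k => ⟨k.1.1, mem_ker σ (congrArg Subtype.val k.2)⟩
      left_inv := fun k => rfl
      right_inv := fun k => rfl })) hle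

end Cfsg.Lib.OrthMult.Three
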