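import Cfsg.Agent.Lib.OrthMult.Three.Frame
import Cfsg.Agent.Lib.OrthMult.Base

/-!
# A symplectic group over two elements inside the stabiliser of a vector

The reflections of sixty-three pairs of roots of type `E₇` are permuted by two rotations as the non-zero vectors
of the six-dimensional symplectic space over two elements.
-/

set_option autoImplicit false
set_option linter.unusedSectionVars false
set_option maxRecDepth 20000

namespace Cfsg.Lib.OrthMult.Three

open Cfsg.Lib.Linear.Orth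
open Cfsg.Lib.SpSix
open scoped Matrix

/-- The fixed vector. -/
def x0 : Vt := rv 55

/-- The codes of the sixty-three roots. -/
def rootCodes : List ℕ := [2187, 729, 507, 28, 93, 327, 414, 2430, 4617, 4395, 2208, 2766, 4953, 2358, 4545, 1296,
  1803, 2025, 1074, 1218, 1467, 1947, 738, 6420, 4233, 5691, 3504, 4140, 6327, 3411, 5598, 352, 619, 31, 118, 676,
  445, 34, 208, 4507, 2320, 2791, 4978, 2389, 4576, 4825, 2638, 1165, 2143, 1894, 1414, 2059, 1099, 1330, 1828,
  4087, 6274, 3358, 5545, 5716, 3529, 6445, 4258]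

/-- A root. -/
def rootV (j : Fin 63) : Vt := rv (rootCodes.getD j 0)

/-- The two rotations. -/
def genWord : Fin 2 → List Vt :=
  ![[rv 1218, rv 6327, rv 34, rv 5545], [rv 729, rv 93, rv 2025, rv 1330]]

theorem gen_facts : ∀ g : Fin 2, pairB (genWord g) = true ∧ (genWord g).length = 4 ∧
    wAct (genWord g) x0 = x0 ∧ ∀ j : Fin 63, wAct (genWord g) (rootV j) = rootV (vPerm g j) ∨
      wAct (genWord g) (rootV j) = -rootV (vPerm g j) := by decide +kernel

theorem root_distinct : ∀ i j : Fin 63, rootV i = rootV j ∨ rootV i = -rootV j → i = j := by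
  decide +kernel

theorem root_link : ∀ j : Fin 63, pb (rootV 0) (rootV j) ≠ 0 ∨
    ∃ k : Fin 63, pb (rootV 0) (rootV k) ≠ 0 ∧ pb (rootV k) (rootV j) ≠ 0 := by decide +kernel

/-- A basis of roots and the fixed vector. -/
def bas (k : Fin 8) : Vt := if h : (k : ℕ) < 7 then rootV ⟨k, by omega⟩ else x0

/-- The coefficients of the standard basis. -/
def coef (i : I8) (k : Fin 8) : ZMod 3 :=
  (([4428, 1377, 1953, 2241, 666, 1629, 3, 1].getD (cpos i) 0 / 3 ^ (k : ℕ) % 3 : ℕ) : ZMod 3)

theorem basis_expand : ∀ i : I8, Pi.single i 1 = ∑ k, coef i k • bas k := by decide +kernel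

theorem x0_norm : Qt x0 ≠ 0 ∧ (∀ j, pb x0 (rootV j) = 0) := by decide +kernel

/-- The two rotations generate the group. -/
noncomputable def WGrp : Subgroup (GL I8 (ZMod 3)) := Subgroup.closure (Set.range fun g => wGL (genWord g))

theorem WGrp_le_root : WGrp ≤ Root Qt Bt ⊤ :=
  (Subgroup.closure_le _).2 (by rintro _ ⟨g, rfl⟩; exact wGL_mem (gen_facts g).1)

theorem WGrp_fix {w : GL I8 (ZMod 3)} (hw : w ∈ WGrp) : w.val *ᵥ x0 = x0 := by
  induction hw using Subgroup.closure_induction with
  | mem x hx =>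
    obtain ⟨g, rfl⟩ := hx
    rw [wGL_act (nsB_of_pairB (gen_facts g).1)]
    exact (gen_facts g).2.2.1
  | one => rw [Units.val_one, Matrix.one_mulVec]
  | mul x y _ _ hx hy => rw [mul_act, hy, hx]
  | inv x _ hx => conv_lhs => rw [← hx, inv_act]

theorem WGrp_det {w : GL I8 (ZMod 3)} (hw : w ∈ WGrp) : w.val.det = 1 := by
  induction hw using Subgroup.closure_induction with
  | mem x hx =>
    obtain ⟨g, rfl⟩ := hx
    rw [wGL_det (nsB_of_pairB (gen_facts g).1), (gen_facts g).2.1]
    norm_num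
  | one => simp
  | mul x y _ _ hx hy => rw [Units.val_mul, Matrix.det_mul, hx, hy, one_mul]
  | inv x _ hx =>
    have h := congrArg Matrix.det x.inv_mul
    rwa [Matrix.det_mul, hx, mul_one, Matrix.det_one] at h

/-- The roots are permuted up to sign. -/
theorem WGrp_perm {w : GL I8 (ZMod 3)} (hw : w ∈ WGrp) (j : Fin 63) :
    ∃ k, w.val *ᵥ rootV j = rootV k ∨ w.val *ᵥ rootV j = -rootV k := by
  have hw' : w ∈ Submonoid.closure (Set.range fun g => wGL (genWord g)) := by
    rwa [WGrp, ← Subgroup.mem_toSubmonoid, Subgroup.closure_toSubmonoid_of_finite] at hw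
  induction hw' using Submonoid.closure_induction generalizing j with
  | mem x hx =>
    obtain ⟨g, rfl⟩ := hx
    exact ⟨vPerm g j, by rw [wGL_act (nsB_of_pairB (gen_facts g).1)]; exact (gen_facts g).2.2.2 j⟩
  | one => exact ⟨j, Or.inl (by rw [Units.val_one, Matrix.one_mulVec])⟩
  | mul x y hx hy ihx ihy =>
    have hx' : x ∈ WGrp := by
      rw [WGrp, ← Subgroup.mem_toSubmonoid, Subgroup.closure_toSubmonoid_of_finite]; exact hx
    have hy' : y ∈ WGrp := by
      rw [WGrp, ← Subgroup.mem_toSubmonoid, Subgroup.closure_toSubmonoid_of_finite]; exact hy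
    obtain ⟨k, hk⟩ := ihy hy' j
    obtain ⟨l, hl⟩ := ihx hx' k
    refine ⟨l, ?_⟩
    rcases hk with hk | hk <;> rcases hl with hl | hl <;>
      simp [← Matrix.mulVec_mulVec, hk, hl, Matrix.mulVec_neg]

/-- The image of a root. -/
noncomputable def wImg (w : WGrp) (j : Fin 63) : Fin 63 := (WGrp_perm w.2 j).choose

theorem wImg_spec (w : WGrp) (j : Fin 63) : (w : GL I8 (ZMod 3)).val *ᵥ rootV j = rootV (wImg w j) ∨
    (w : GL I8 (ZMod 3)).val *ᵥ rootV j = -rootV (wImg w j) := (WGrp_perm w.2 j).choose_spec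

theorem wImg_unique {w : WGrp} {j k : Fin 63}
    (h : (w : GL I8 (ZMod 3)).val *ᵥ rootV j = rootV k ∨ (w : GL I8 (ZMod 3)).val *ᵥ rootV j = -rootV k) :
    wImg w j = k := by
  refine root_distinct _ _ ?_
  rcases wImg_spec w j with h1 | h1 <;> rcases h with h3 | h3 <;> rw [h1] at h3
  · exact Or.inl h3
  · exact Or.inr h3
  · exact Or.inr (neg_eq_iff_eq_neg.1 h3)
  · exact Or.inl (neg_injective h3)

theorem wImg_mul (v w : WGrp) (j : Fin 63) : wImg (v * w) j = wImg v (wImg w j) := by
  refine wImg_unique ?_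
  rcases wImg_spec w j with h1 | h1 <;> rcases wImg_spec v (wImg w j) with h3 | h3 <;>
    simp [← Matrix.mulVec_mulVec, h1, h3, Matrix.mulVec_neg]

theorem wImg_one (j : Fin 63) : wImg 1 j = j :=
  wImg_unique (Or.inl (by rw [OneMemClass.coe_one, Units.val_one, Matrix.one_mulVec]))

/-- The action on the pairs of roots. -/
noncomputable def wRep : WGrp →* Equiv.Perm (Fin 63) :=
  MonoidHom.mk' (fun w => ⟨wImg w, wImg w⁻¹, fun j => by rw [← wImg_mul, inv_mul_cancel, wImg_one],
    fun j => by rw [← wImg_mul, mul_inv_cancel, wImg_one]⟩) fun v w => Equiv.ext (wImg_mul v w)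

theorem wRep_injective : Function.Injective wRep := by
  refine (injective_iff_map_eq_one _).2 fun w hw => ?_
  have hiso := root_le_iso space_t ⊤ (WGrp_le_root w.2)
  have hfix : ∀ j, (w : GL I8 (ZMod 3)).val *ᵥ rootV j = rootV j ∨
      (w : GL I8 (ZMod 3)).val *ᵥ rootV j = -rootV j := fun j => by
    have h := wImg_spec w j
    rwa [show wImg w j = j from congrArg (fun p : Equiv.Perm (Fin 63) => p j) hw] at h
  obtain ⟨s, hs, hs0⟩ : ∃ s : ZMod 3, (s = 1 ∨ s = -1) ∧ (w : GL I8 (ZMod 3)).val *ᵥ rootV 0 = s • rootV 0 := by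
    rcases hfix 0 with h | h
    · exact ⟨1, Or.inl rfl, by rw [h, one_smul]⟩
    · exact ⟨-1, Or.inr rfl, by rw [h, neg_smul, one_smul]⟩
  have hstep : ∀ i j, pb (rootV i) (rootV j) ≠ 0 → (w : GL I8 (ZMod 3)).val *ᵥ rootV i = s • rootV i →
      (w : GL I8 (ZMod 3)).val *ᵥ rootV j = s • rootV j := fun i j hij hi => by
    have hB := space_t.B_act hiso (rootV i) (rootV j)
    rw [hi, map_smul, LinearMap.smul_apply, smul_eq_mul] at hB
    rcases hfix j with h | h <;> rw [h] at hB ⊢
    · rw [show s = 1 from mul_right_cancel₀ (b := Bt (rootV i) (rootV j)) (by rwa [Bt_apply])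
        (hB.trans (one_mul _).symm), one_smul]
    · rw [map_neg, mul_neg] at hB
      rw [show s = -1 from mul_right_cancel₀ (b := Bt (rootV i) (rootV j)) (by rwa [Bt_apply])
        (by rw [neg_one_mul]; exact (neg_eq_iff_eq_neg.1 hB)), neg_smul, one_smul]
  have hall : ∀ j, (w : GL I8 (ZMod 3)).val *ᵥ rootV j = s • rootV j := fun j => by
    rcases root_link j with h | ⟨k, h1, h3⟩
    · exact hstep 0 j h hs0
    · exact hstep k j h3 (hstep 0 k h1 hs0)
  rcases hs with rfl | rfl
  · refine Subtype.ext (Units.ext (Matrix.ext_of_mulVec_single fun i => ?_))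
    rw [OneMemClass.coe_one, Units.val_one, Matrix.one_mulVec, basis_expand, Matrix.mulVec_sum]
    refine Finset.sum_congr rfl fun k _ => ?_
    rw [Matrix.mulVec_smul]
    congr 1
    unfold bas
    split
    · rw [hall, one_smul]
    · exact WGrp_fix w.2
  · exfalso
    have hx := x0_norm.1
    have hM : (w : GL I8 (ZMod 3)).val = -(rGL Qt x0).val := by
      refine Matrix.ext_of_mulVec_single fun i => ?_
      rw [Matrix.neg_mulVec, basis_expand, Matrix.mulVec_sum, Matrix.mulVec_sum, ← Finset.sum_neg_distrib]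
      refine Finset.sum_congr rfl fun k _ => ?_
      rw [Matrix.mulVec_smul, Matrix.mulVec_smul, ← smul_neg]
      congr 1
      unfold bas
      split
      · rw [hall, rGL_fix space_t hx (by rw [Bt_apply]; exact x0_norm.2 _), neg_smul, one_smul]
      · rw [WGrp_fix w.2, rGL_self space_t hx, neg_neg]
    have hd := WGrp_det w.2
    rw [hM, Matrix.det_neg, rGL_det space_t hx, card_I8] at hd
    exact absurd hd (by decide)

theorem wRep_range : wRep.range = spRep.range := by
  have htop : (⊤ : Subgroup WGrp) =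
      Subgroup.closure (((↑) : WGrp → GL I8 (ZMod 3)) ⁻¹' Set.range fun g => wGL (genWord g)) :=
    (Subgroup.closure_closure_coe_preimage).symm
  rw [← Cfsg.Lib.SpSix.proj_range, MonoidHom.range_eq_map (f := proj), ← cGen_closure, MonoidHom.map_closure,
    MonoidHom.range_eq_map (f := wRep), htop, MonoidHom.map_closure]
  have hgen : ∀ g : Fin 2, ∀ h : wGL (genWord g) ∈ WGrp, wRep ⟨_, h⟩ = vPerm g := fun g h =>
    Equiv.ext fun j => wImg_unique (by
      show (wGL (genWord g)).val *ᵥ rootV j = _ ∨ (wGL (genWord g)).val *ᵥ rootV j = _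
      rw [wGL_act (nsB_of_pairB (gen_facts g).1)]
      exact (gen_facts g).2.2.2 j)
  congr 1
  ext p
  constructor
  · rintro ⟨w, ⟨g, hg⟩, rfl⟩
    refine ⟨cGen (g : ℕ), by fin_cases g <;> simp, ?_⟩
    obtain ⟨w, hw⟩ := w
    obtain rfl : wGL (genWord g) = w := hg
    refine Eq.trans ?_ (hgen g hw).symm
    show vPerm (Fin.ofNat 2 (g : ℕ)) = vPerm g
    rw [Fin.ofNat_val_eq_self]
  · rintro ⟨c, hc, rfl⟩
    rcases hc with rfl | rfl
    · exact ⟨⟨_, Subgroup.subset_closure ⟨0, rfl⟩⟩, ⟨0, rfl⟩, hgen 0 _⟩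
    · exact ⟨⟨_, Subgroup.subset_closure ⟨1, rfl⟩⟩, ⟨1, rfl⟩, hgen 1 _⟩

/-- The group is the symplectic group. -/
noncomputable def wEquiv : WGrp ≃* SpGrp :=
  ((MonoidHom.ofInjective wRep_injective).trans (MulEquiv.subgroupCongr wRep_range)).trans
    (MonoidHom.ofInjective spRep_injective).symm

theorem card_WGrp : Nat.card WGrp = 1451520 := by
  rw [Nat.card_congr wEquiv.toEquiv, card_Sp]

theorem toSp_surjective' : Function.Surjective Cfsg.Lib.SpSix.toSp := fun A => by
  obtain ⟨g, hg⟩ : spRep A ∈ proj.range := by rw [proj_range]; exact ⟨_, rfl⟩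
  exact ⟨g, spRep_injective (by rw [spRep_toSp, hg])⟩

theorem stemLeTwo_WGrp : StemLeTwo ↥WGrp := by
  refine StemLeTwo.of_equiv wEquiv.symm ?_
  let θ : ULift.{0} Cov →* SpGrp := Cfsg.Lib.SpSix.toSp.comp MulEquiv.ulift.toMonoidHom
  refine stemLeTwo_of_cover Cfsg.Lib.SpMult.perfect_uCov Cfsg.Lib.SpMult.noStem_uCov θ
    (toSp_surjective'.comp MulEquiv.ulift.surjective) ?_
  refine le_trans (Nat.card_le_card_of_injective (fun k => (⟨k.1.down, by
    rw [MonoidHom.mem_ker, ← spRep_toSp, show Cfsg.Lib.SpSix.toSp k.1.down = 1 from k.2, map_one]⟩ :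
      proj.ker)) fun a b h => Subtype.ext (ULift.ext _ _ (congrArg Subtype.val h))) card_ker.le

theorem perfect_WGrp : ⁅WGrp, WGrp⁆ = WGrp := by
  have h : commutator SpGrp = ⊤ := by
    rw [commutator_def, ← Subgroup.map_top_of_surjective (Cfsg.Lib.SpSix.toSp.comp
      (MulEquiv.ulift : ULift.{0} Cov ≃* Cov).toMonoidHom) (toSp_surjective'.comp MulEquiv.ulift.surjective),
      ← Subgroup.map_commutator, ← commutator_def, Cfsg.Lib.SpMult.perfect_uCov]
  have h2 : commutator WGrp = ⊤ := by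
    rw [commutator_def, ← Subgroup.map_top_of_surjective wEquiv.symm.toMonoidHom wEquiv.symm.surjective,
      ← Subgroup.map_commutator, ← commutator_def, h]
  have h3 := congrArg (Subgroup.map WGrp.subtype) h2
  rwa [commutator_def, Subgroup.map_commutator, ← MonoidHom.range_eq_map, Subgroup.range_subtype] at h3

end Cfsg.Lib.OrthMult.Three
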