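import Cfsg.Agent.Lib.OrthMult.Three.Level
import Cfsg.Agent.Lib.OrthMult.Three.Parity

/-!
# Lifts of a Sylow three-subgroup

The group of upper Siegel elements lifts isomorphically, so the kernel of a stem extension has no
element of odd prime order.
-/

set_option autoImplicit false
set_option linter.unusedSectionVars false
set_option maxRecDepth 20000

namespace Cfsg.Lib.OrthMult.Three

open Cfsg.Lib.Linear.Orth
open Cfsg.Lib.OrthMult
open scoped Matrix commutatorElement Pointwise

/-- The first level. -/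
abbrev lv0 : Lvl where
  n := 6
  e := ee 0
  f := ff 0
  ws := fun i => rv (([729, 2187, 84, 252, 660, 426] : List ℕ).getD i 0)
  z := [rv 729, rv 2187, rv 84, rv 252, rv 660, rv 426]
  flip := fun i j => rv ((([[0, 252, 2187, 2187, 2187, 2187], [252, 0, 729, 729, 729, 729],
    [2187, 729, 0, 2187, 2187, 2187], [2187, 729, 2187, 0, 2187, 2187], [2187, 729, 2187, 2187, 0, 2187],
    [2187, 729, 2187, 2187, 2187, 0]] : List (List ℕ)).getD i []).getD j 0)

/-- The second level. -/
abbrev lv1 : Lvl where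
  n := 4
  e := ee 1
  f := ff 1
  ws := fun i => rv (([729, 2187, 252, 495] : List ℕ).getD i 0)
  z := [rv 729, rv 2187, rv 252, rv 28, rv 495, rv 55]
  flip := fun i j => rv ((([[0, 252, 2187, 2187], [252, 0, 729, 729], [2187, 729, 0, 2187],
    [55, 55, 55, 0]] : List (List ℕ)).getD i []).getD j 0)

/-- The third level. -/
abbrev lv2 : Lvl where
  n := 2
  e := ee 2
  f := ff 2
  ws := fun i => rv (([729, 2187] : List ℕ).getD i 0)
  z := [rv 729, rv 2187]
  flip := fun i j => rv ((([[0, 84], [84, 0]] : List (List ℕ)).getD i []).getD j 0)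

theorem ok0 : lv0.Ok where
  he := by decide +kernel
  hf := by decide +kernel
  hew := by decide +kernel
  hfw := by decide +kernel
  hws := by decide +kernel
  hgen := by decide +kernel
  hz := by decide +kernel
  hzz := by decide +kernel
  hzg := by decide +kernel
  hcube := by decide +kernel
  hflip := by decide +kernel
  hcomm := by decide +kernel
  hinj := by decide +kernel

theorem ok1 : lv1.Ok where
  he := by decide +kernel
  hf := by decide +kernel
  hew := by decide +kernel
  hfw := by decide +kernel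
  hws := by decide +kernel
  hgen := by decide +kernel
  hz := by decide +kernel
  hzz := by decide +kernel
  hzg := by decide +kernel
  hcube := by decide +kernel
  hflip := by decide +kernel
  hcomm := by decide +kernel
  hinj := by decide +kernel

theorem ok2 : lv2.Ok where
  he := by decide +kernel
  hf := by decide +kernel
  hew := by decide +kernel
  hfw := by decide +kernel
  hws := by decide +kernel
  hgen := by decide +kernel
  hz := by decide +kernel
  hzz := by decide +kernel
  hzg := by decide +kernel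
  hcube := by decide +kernel
  hflip := by decide +kernel
  hcomm := by decide +kernel
  hinj := by decide +kernel

/-- The codes of the conjugates of the generators of the upper level. -/
def conj01 : List (List ℕ) := [[343, 3, 667, 27, 425, 587], [1, 345, 669, 27, 429, 591],
  [1, 3, 693, 369, 477, 639], [1, 3, 486, 27, 18, 81]]

/-- The codes of the conjugates of the generators of the upper level. -/
def conj02 : List (List ℕ) := [[622, 3, 9, 460, 704, 676], [1, 624, 9, 462, 708, 678]]

/-- The codes of the conjugates of the generators of the upper level. -/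
def conj12 : List (List ℕ) := [[73, 3, 46, 20], [1, 75, 48, 24]]

/-- The lower level normalises the upper one. -/
def normB (L M : Lvl) (t : List (List ℕ)) : Bool :=
  decide (∀ (b : Fin M.n) (a : Fin L.n),
    sameW (M.gen b ++ L.gen a) (L.comb ((t.getD b []).getD a 0) ++ M.gen b) = true) &&
  decide (∀ b : Fin M.n, sameW (L.z ++ M.gen b) (M.gen b ++ L.z) = true ∧ wAct (M.gen b) L.f = L.f)

theorem norm01 : normB lv0 lv1 conj01 = true := by decide +kernel

theorem norm02 : normB lv0 lv2 conj02 = true := by decide +kernel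

theorem norm12 : normB lv1 lv2 conj12 = true := by decide +kernel

theorem comb_mem {L : Lvl} (O : L.Ok) (code : ℕ) : wGL (L.comb code) ∈ O.phi.range := by
  have hg : ∀ i, wGL (L.gen i) ∈ O.phi.range := fun i => ⟨_, O.phi_single i⟩
  have hrep : ∀ (i : Fin L.n) (k : ℕ), wGL (List.replicate k (L.gen i)).flatten ∈ O.phi.range := fun i k => by
    induction k with
    | zero => exact one_mem _
    | succ k ih => rw [List.replicate_succ, List.flatten_cons, wGL_append]; exact mul_mem (hg i) ih
  unfold Lvl.comb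
  induction List.finRange L.n with
  | nil => exact one_mem _
  | cons i l ih => rw [List.flatMap_cons, wGL_append]; exact mul_mem (hrep i _) ih

/-- An element of the lower level fixes the partner of the upper one. -/
theorem range_fix {L M : Lvl} {t : List (List ℕ)} (OM : M.Ok) (h : normB L M t = true)
    {g : GL I8 (ZMod 3)} (hg : g ∈ OM.phi.range) : g.val *ᵥ L.f = L.f := by
  simp only [normB, Bool.and_eq_true, decide_eq_true_eq] at h
  obtain ⟨c, rfl⟩ := hg
  obtain ⟨c, rfl⟩ := Multiplicative.ofAdd.surjective c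
  let S : Subgroup (Multiplicative (Fin M.n → ZMod 3)) :=
    { carrier := {c | (OM.phi c).val *ᵥ L.f = L.f}
      one_mem' := by show (OM.phi 1).val *ᵥ L.f = L.f; rw [map_one, Units.val_one, Matrix.one_mulVec]
      mul_mem' := fun {a b} ha hb => by
        show (OM.phi (a * b)).val *ᵥ L.f = L.f
        rw [map_mul, mul_act, show (OM.phi b).val *ᵥ L.f = L.f from hb]
        exact ha
      inv_mem' := fun {a} ha => by
        show (OM.phi a⁻¹).val *ᵥ L.f = L.f
        rw [map_inv]
        conv_lhs => rw [← (show (OM.phi a).val *ᵥ L.f = L.f from ha), inv_act] }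
  show Multiplicative.ofAdd c ∈ S
  rw [← Finset.univ_sum_single c, ofAdd_sum]
  refine Subgroup.prod_mem _ fun i _ => ?_
  rw [show Pi.single i (c i) = (c i).val • (Pi.single i 1 : Fin M.n → ZMod 3) by
    rw [← Pi.single_smul, nsmul_eq_mul, mul_one, ZMod.natCast_zmod_val], ofAdd_nsmul]
  refine Subgroup.pow_mem _ ?_ _
  show (OM.phi _).val *ᵥ L.f = L.f
  rw [OM.phi_single, wGL_act (nsB_of_pairB (OM.hgen i))]
  exact (h.2 i).2

variable {E : Type} [Group E] [Finite E] (σ : E →* ↥(Root Qt Bt ⊤))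
variable (hs : Function.Surjective σ) (hc : σ.ker ≤ Subgroup.center E)

include hs hc in
theorem normalizer_le {L M : Lvl} {t : List (List ℕ)} (OL : L.Ok) (OM : M.Ok) (h : normB L M t = true)
    {z z' : E} (hz : glOf σ z = wGL L.z) :
    liftGrp σ M z' ≤ Subgroup.normalizer (liftGrp σ L z : Set E) := by
  simp only [normB, Bool.and_eq_true, decide_eq_true_eq] at h
  obtain ⟨hn, hz'⟩ := h
  have hzz : z * z ∈ Subgroup.center E := hc (mem_ker σ (by
    rw [map_mul, hz, ← wGL_append, wGL_eq OL.hzz, wGL_nil]))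
  rw [liftGrp, Subgroup.closure_le]
  rintro y ⟨⟨b, hb⟩, hy3, -⟩
  refine Subgroup.mem_normalizer_iff_conj_image_eq.2 ?_
  have hcomm : y * z = z * y := by
    refine commute_two_three σ hc ?_ hzz (hy3 ▸ one_mem _)
    have := wGL_eq (hz' b).1
    rw [wGL_append, wGL_append] at this
    rw [hb, hz]; exact this.symm
  have hsub : ∀ x ∈ liftGrp σ L z, y * x * y⁻¹ ∈ liftGrp σ L z := by
    intro x hx
    induction hx using Subgroup.closure_induction with
    | mem x hx =>
      obtain ⟨⟨a, ha⟩, hx3, hxz⟩ := hx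
      have himg : glOf σ (y * x * y⁻¹) ∈ OL.phi.range := by
        have e := wGL_eq (hn b a)
        rw [wGL_append, wGL_append] at e
        rw [map_mul, map_mul, map_inv, hb, ha, e, mul_inv_cancel_right]
        exact comb_mem OL _
      rw [← liftGrp_map σ hs hc OL hz] at himg
      obtain ⟨k, hk, hk'⟩ := himg
      obtain ⟨-, hk3, hkz⟩ := liftGrp_props σ hs hc OL z k hk
      set d := k⁻¹ * (y * x * y⁻¹) with hd
      have hdc : d ∈ Subgroup.center E := hc (mem_ker σ (by rw [hd, map_mul, map_inv, hk', inv_mul_cancel]))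
      have hdcomm := Subgroup.mem_center_iff.1 hdc
      have e1 : y * x * y⁻¹ = k * d := by rw [hd, mul_inv_cancel_left]
      have hd3 : d * d * d = 1 := by
        calc d * d * d = (k * k * k) * (d * d * d) := by rw [hk3, one_mul]
          _ = k * d * (k * d) * (k * d) := by
              calc (k * k * k) * (d * d * d) = k * k * (k * d) * d * d := by group
                _ = k * k * (d * k) * d * d := by rw [hdcomm k]
                _ = k * (k * d) * (k * d) * d := by group
                _ = k * (d * k) * (d * k) * d := by rw [hdcomm k]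
                _ = k * d * (k * d) * (k * d) := by group
          _ = y * (x * x * x) * y⁻¹ := by rw [← e1]; group
          _ = 1 := by rw [hx3, mul_one, mul_inv_cancel]
      have hd2 : d = d⁻¹ := by
        have h1 : z * (y * x * y⁻¹) * z⁻¹ = (y * x * y⁻¹)⁻¹ := by
          calc z * (y * x * y⁻¹) * z⁻¹ = (z * y) * x * (z * y)⁻¹ := by group
            _ = (y * z) * x * (y * z)⁻¹ := by rw [hcomm]
            _ = y * (z * x * z⁻¹) * y⁻¹ := by group
            _ = _ := by rw [hxz]; group
        rw [e1] at h1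
        have h2 : z * (k * d) * z⁻¹ = (z * k * z⁻¹) * d := by
          calc z * (k * d) * z⁻¹ = (z * k * z⁻¹) * (z * d * z⁻¹) := by group
            _ = _ := by rw [hdcomm z, mul_inv_cancel_right]
        rw [h2, hkz, mul_inv_rev, ← Subgroup.mem_center_iff.1 (inv_mem hdc) k⁻¹] at h1
        exact mul_left_cancel h1
      have h22 : d * d = 1 := by nth_rw 1 [hd2]; exact inv_mul_cancel d
      have hd1 : d = 1 := by rwa [h22, one_mul] at hd3
      rw [e1, hd1, mul_one]
      exact hk
    | one => simp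
    | mul p q _ _ hp hq =>
      have := mul_mem hp hq
      convert this using 1
      group
    | inv p _ hp =>
      have := inv_mem hp
      convert this using 1
      group
  refine Set.eq_of_subset_of_ncard_le ?_ (by rw [Set.ncard_image_of_injective _ (MulAut.conj y).injective]) (Set.toFinite _)
  rintro _ ⟨x, hx, rfl⟩
  exact hsub x hx

include hs hc in
/-- The kernel has no element of order three in the derived group. -/
theorem order_ne_three {k : E} (hk : k ∈ σ.ker) (hk' : k ∈ commutator E) : orderOf k ≠ 3 := by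
  intro h3
  obtain ⟨z0, hz0⟩ := exists_word_lift σ hs ok0.hz
  obtain ⟨z1, hz1⟩ := exists_word_lift σ hs ok1.hz
  obtain ⟨z2, hz2⟩ := exists_word_lift σ hs ok2.hz
  set K0 := liftGrp σ lv0 z0
  set K1 := liftGrp σ lv1 z1
  set K2 := liftGrp σ lv2 z2
  have hm12 := normalizer_le σ hs hc ok1 ok2 norm12 (z' := z2) hz1
  have hm01 := normalizer_le σ hs hc ok0 ok1 norm01 (z' := z1) hz0
  have hm02 := normalizer_le σ hs hc ok0 ok2 norm02 (z' := z2) hz0
  have hset12 : ((K1 ⊔ K2 : Subgroup E) : Set E) = (K1 : Set E) * (K2 : Set E) :=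
    Subgroup.coe_mul_of_right_le_normalizer_left K1 K2 hm12
  have hset : ((K0 ⊔ (K1 ⊔ K2) : Subgroup E) : Set E) = (K0 : Set E) * ((K1 ⊔ K2 : Subgroup E) : Set E) :=
    Subgroup.coe_mul_of_right_le_normalizer_left K0 (K1 ⊔ K2) (sup_le hm01 hm02)
  set K := K0 ⊔ (K1 ⊔ K2)
  have hdec : ∀ y ∈ K, ∃ a ∈ K0, ∃ b ∈ K1, ∃ c ∈ K2, y = a * (b * c) := fun y hy => by
    obtain ⟨a, ha, r, hr, rfl⟩ : y ∈ (K0 : Set E) * ((K1 ⊔ K2 : Subgroup E) : Set E) := hset ▸ (show y ∈ (K : Set E) from hy)
    obtain ⟨b, hb, c, hcc, rfl⟩ : r ∈ (K1 : Set E) * (K2 : Set E) := hset12 ▸ hr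
    exact ⟨a, ha, b, hb, c, hcc, rfl⟩
  have hr0 := fun a ha => (liftGrp_props σ hs hc ok0 z0 a ha).1
  have hr1 := fun a ha => (liftGrp_props σ hs hc ok1 z1 a ha).1
  have hr2 := fun a ha => (liftGrp_props σ hs hc ok2 z2 a ha).1
  have huniq : ∀ a ∈ K0, ∀ b ∈ K1, ∀ c ∈ K2, glOf σ (a * (b * c)) = 1 → a = 1 ∧ b = 1 ∧ c = 1 := by
    intro a ha b hb c hcc e
    obtain ⟨u, hu⟩ := hr0 a ha
    obtain ⟨v, hv⟩ := hr1 b hb
    have fb := range_fix ok1 norm01 (hr1 b hb)
    have fc := range_fix ok2 norm02 (hr2 c hcc)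
    have hu1 : u = 1 := ok0.phi_eq_one (by
      have h := congrArg (fun g : GL I8 (ZMod 3) => g.val *ᵥ lv0.f) e
      simpa only [map_mul, ← hu, mul_act, fb, fc, Units.val_one, Matrix.one_mulVec] using h)
    have ha1 : a = 1 := liftGrp_ker σ hs hc ok0 z0 ha (by rw [← hu, hu1, map_one])
    rw [ha1, one_mul] at e
    have hv1 : v = 1 := ok1.phi_eq_one (by
      have h := congrArg (fun g : GL I8 (ZMod 3) => g.val *ᵥ lv1.f) e
      simpa only [map_mul, ← hv, mul_act, range_fix ok2 norm12 (hr2 c hcc), Units.val_one,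
        Matrix.one_mulVec] using h)
    have hb1 : b = 1 := liftGrp_ker σ hs hc ok1 z1 hb (by rw [← hv, hv1, map_one])
    rw [hb1, one_mul] at e
    exact ⟨ha1, hb1, liftGrp_ker σ hs hc ok2 z2 hcc e⟩
  -- the image has the order of a Sylow three-subgroup
  set U := K.map σ with hU
  have hcard : Nat.card U = 3 ^ 12 := by
    have hKU : Nat.card K = Nat.card U := by
      refine Nat.card_congr (Equiv.ofBijective (fun x : K => (⟨σ x, x, x.2, rfl⟩ : U))
        ⟨fun x y h => Subtype.ext (inv_mul_eq_one.1 ?_), fun ⟨_, x, hx, hxy⟩ => ⟨⟨x, hx⟩, Subtype.ext hxy⟩⟩)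
      have e : σ (x : E) = σ y := congrArg Subtype.val h
      obtain ⟨a, ha, b, hb, c, hcc, hy⟩ := hdec _ (mul_mem (inv_mem x.2) y.2)
      obtain ⟨rfl, rfl, rfl⟩ := huniq a ha b hb c hcc (by
        rw [← hy]
        show ((σ ((x : E)⁻¹ * y) : ↥(Root Qt Bt ⊤)) : GL I8 (ZMod 3)) = 1
        rw [map_mul, map_inv, e, inv_mul_cancel]; rfl)
      simpa using hy
    rw [← hKU]
    have h2 : ∀ (M : Lvl) (OM : M.Ok) (z : E), glOf σ z = wGL M.z → Nat.card (liftGrp σ M z) = 3 ^ M.n := by
      intro M OM z hz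
      rw [← OM.card_range, ← liftGrp_map σ hs hc OM hz]
      exact Nat.card_congr (Equiv.ofBijective
        (fun x : liftGrp σ M z => (⟨glOf σ x, x, x.2, rfl⟩ : (liftGrp σ M z).map (glOf σ)))
        ⟨fun x y h => Subtype.ext (inv_mul_eq_one.1 (liftGrp_ker σ hs hc OM z (mul_mem (inv_mem x.2) y.2)
          (by rw [map_mul, map_inv, show glOf σ (x : E) = glOf σ y from (congrArg Subtype.val h :), inv_mul_cancel]))),
         fun ⟨_, x, hx, hxy⟩ => ⟨⟨x, hx⟩, Subtype.ext hxy⟩⟩)
    let m : K0 × K1 × K2 → K := fun p => ⟨p.1.1 * (p.2.1.1 * p.2.2.1),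
      Subgroup.mul_mem_sup p.1.2 (Subgroup.mul_mem_sup p.2.1.2 p.2.2.2)⟩
    have hbij : Function.Bijective m := by
      refine ⟨fun p q h => ?_, fun y => ?_⟩
      · obtain ⟨⟨a, ha⟩, ⟨b, hb⟩, ⟨c, hcc⟩⟩ := p
        obtain ⟨⟨a', ha'⟩, ⟨b', hb'⟩, ⟨c', hcc'⟩⟩ := q
        have e : a * (b * c) = a' * (b' * c') := congrArg Subtype.val h
        have h1 : a'⁻¹ * a ∈ K0 := mul_mem (inv_mem ha') ha
        have e1 : (a'⁻¹ * a) * (b * c) = b' * c' := by rw [mul_assoc, e, inv_mul_cancel_left]
        have e2 : (a'⁻¹ * a) * (b * c) * (b' * c')⁻¹ = 1 := by rw [e1, mul_inv_cancel]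
        have h2' : b * c * (b' * c')⁻¹ ∈ K1 ⊔ K2 :=
          mul_mem (Subgroup.mul_mem_sup hb hcc) (inv_mem (Subgroup.mul_mem_sup hb' hcc'))
        obtain ⟨p, hp, r, hr, hpr⟩ : b * c * (b' * c')⁻¹ ∈ (K1 : Set E) * (K2 : Set E) :=
          hset12 ▸ (show b * c * (b' * c')⁻¹ ∈ ((K1 ⊔ K2 : Subgroup E) : Set E) from h2')
        obtain ⟨q1, q2, q3⟩ := huniq _ h1 p hp r hr (by
          rw [show p * r = b * c * (b' * c')⁻¹ from hpr, ← mul_assoc, e2, map_one])
        have hbc : b * c = b' * c' := by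
          rw [← mul_inv_eq_one, ← hpr, q2, q3]; exact one_mul 1
        have h3' : b'⁻¹ * b ∈ K1 := mul_mem (inv_mem hb') hb
        have e3 : (b'⁻¹ * b) * (c * c'⁻¹) = 1 := by
          calc (b'⁻¹ * b) * (c * c'⁻¹) = b'⁻¹ * (b * c) * c'⁻¹ := by group
            _ = 1 := by rw [hbc]; group
        obtain ⟨-, r2, r3⟩ := huniq 1 (one_mem _) _ h3' _ (mul_mem hcc (inv_mem hcc')) (by
          rw [one_mul, e3, map_one])
        obtain rfl := inv_mul_eq_one.1 q1
        obtain rfl := inv_mul_eq_one.1 r2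
        obtain rfl := mul_inv_eq_one.1 r3
        rfl
      · obtain ⟨a, ha, b, hb, c, hcc, e⟩ := hdec y y.2
        exact ⟨(⟨a, ha⟩, ⟨b, hb⟩, ⟨c, hcc⟩), Subtype.ext e.symm⟩
    rw [← Nat.card_congr (Equiv.ofBijective m hbij), Nat.card_prod, Nat.card_prod, h2 _ ok0 z0 hz0,
      h2 _ ok1 z1 hz1, h2 _ ok2 z2 hz2, ← pow_add, ← pow_add]
    rfl
  have hidx : U.index = 41 * 2 ^ 10 * 455 := by
    have h := U.card_mul_index
    rw [card_root, hcard] at h
    norm_num at h ⊢
    omega
  have hmem := mem_comm_of_index σ hs hc U hk hk' (by rw [h3, hidx]; norm_num)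
  have hle : ⁅U.comap σ, U.comap σ⁆ ≤ K := by
    rw [Subgroup.commutator_le]
    intro a ha b hb
    obtain ⟨a', ha', ea⟩ : σ a ∈ U := ha
    obtain ⟨b', hb', eb⟩ : σ b ∈ U := hb
    have hca : a'⁻¹ * a ∈ Subgroup.center E :=
      hc (by rw [MonoidHom.mem_ker, map_mul, map_inv, ea, inv_mul_cancel])
    have hcb : b'⁻¹ * b ∈ Subgroup.center E :=
      hc (by rw [MonoidHom.mem_ker, map_mul, map_inv, eb, inv_mul_cancel])
    have hcomm := Cfsg.Lib.Chev.comm_mul_central (a := a') (b := b') hca hcb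
    rw [mul_inv_cancel_left, mul_inv_cancel_left] at hcomm
    rw [hcomm, commutatorElement_def]
    exact mul_mem (mul_mem (mul_mem ha' hb') (inv_mem ha')) (inv_mem hb')
  obtain ⟨a, ha, b, hb, c, hcc, rfl⟩ := hdec k (hle hmem)
  obtain ⟨rfl, rfl, rfl⟩ := huniq a ha b hb c hcc (congrArg Subtype.val hk)
  simp at h3

include hs hc in
/-- The kernel has no element of a large prime order in the derived group. -/
theorem order_ne_prime {k : E} (hk : k ∈ σ.ker) (hk' : k ∈ commutator E) {p : ℕ} (hp : p.Prime)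
    (h5 : 5 ≤ p) : orderOf k ≠ p := by
  intro hkp
  haveI := Fact.mk hp
  obtain ⟨P⟩ := (inferInstance : Nonempty (Sylow p ↥(Root Qt Bt ⊤)))
  obtain ⟨j, hj⟩ := P.2.exists_card_eq
  have hdvd : p ^ j ∣ 3 ^ 12 * 41 * 2 ^ 10 * 455 := by
    rw [← card_root, ← hj]; exact Subgroup.card_subgroup_dvd_card _
  have hj1 : j ≤ 1 := by
    by_contra hj2
    have h2 : p ^ 2 ∣ 3 ^ 12 * 41 * 2 ^ 10 * 455 := (pow_dvd_pow p (by omega)).trans hdvd
    have h1 : p ∣ 3 ^ 12 * 41 * 2 ^ 10 * 455 := (dvd_pow_self p two_ne_zero).trans h2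
    rcases hp.dvd_mul.1 h1 with h | h
    rcases hp.dvd_mul.1 h with h | h
    rcases hp.dvd_mul.1 h with h | h
    · have := Nat.le_of_dvd (by norm_num) (hp.dvd_of_dvd_pow h); omega
    · obtain rfl := (Nat.prime_dvd_prime_iff_eq hp (by norm_num)).1 h
      norm_num at h2
    · have := Nat.le_of_dvd (by norm_num) (hp.dvd_of_dvd_pow h); omega
    · rw [show (455 : ℕ) = 5 * (7 * 13) by norm_num] at h
      rcases hp.dvd_mul.1 h with h | h
      · obtain rfl := (Nat.prime_dvd_prime_iff_eq hp (by norm_num)).1 h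
        norm_num at h2
      rcases hp.dvd_mul.1 h with h | h <;>
      · obtain rfl := (Nat.prime_dvd_prime_iff_eq hp (by norm_num)).1 h
        norm_num at h2
  haveI : IsCyclic ↥(P : Subgroup ↥(Root Qt Bt ⊤)) := by
    rcases Nat.le_one_iff_eq_zero_or_eq_one.1 hj1 with rfl | rfl
    · haveI := (Nat.card_eq_one_iff_unique.1 (hj.trans (pow_zero p))).1
      infer_instance
    · exact isCyclic_of_prime_card (hj.trans (pow_one p))
  have hidx : Nat.Coprime (orderOf k) (P : Subgroup ↥(Root Qt Bt ⊤)).index := by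
    rw [hkp]; exact hp.coprime_iff_not_dvd.2 P.not_dvd_index
  have hmem := mem_comm_of_index σ hs hc (P : Subgroup ↥(Root Qt Bt ⊤)) hk hk' hidx
  have hbot : ⁅(P : Subgroup ↥(Root Qt Bt ⊤)).comap σ, (P : Subgroup ↥(Root Qt Bt ⊤)).comap σ⁆ = ⊥ := by
    rw [eq_bot_iff, Subgroup.commutator_le]
    intro a ha b hb
    obtain ⟨g, hg⟩ := IsCyclic.exists_generator (α := ↥(P : Subgroup ↥(Root Qt Bt ⊤)))
    obtain ⟨e, he⟩ := hs g.1
    obtain ⟨i, hi⟩ := Subgroup.mem_zpowers_iff.1 (hg ⟨σ a, ha⟩)
    obtain ⟨l, hl⟩ := Subgroup.mem_zpowers_iff.1 (hg ⟨σ b, hb⟩)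
    have hca : (e ^ i)⁻¹ * a ∈ Subgroup.center E := hc (by
      rw [MonoidHom.mem_ker, map_mul, map_inv, map_zpow, he, ← Subgroup.coe_zpow, hi, inv_mul_cancel])
    have hcb : (e ^ l)⁻¹ * b ∈ Subgroup.center E := hc (by
      rw [MonoidHom.mem_ker, map_mul, map_inv, map_zpow, he, ← Subgroup.coe_zpow, hl, inv_mul_cancel])
    have hcomm := Cfsg.Lib.Chev.comm_mul_central (a := e ^ i) (b := e ^ l) hca hcb
    rw [mul_inv_cancel_left, mul_inv_cancel_left] at hcomm
    rw [Subgroup.mem_bot, hcomm, commutatorElement_eq_one_iff_mul_comm, ← zpow_add, ← zpow_add, add_comm]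
  rw [hbot, Subgroup.mem_bot] at hmem
  rw [hmem, orderOf_one] at hkp
  omega

/-- The kernel of a stem extension has order at most two. -/
theorem card_ker_le (hσ : Cfsg.IsStemExtension σ) : Nat.card σ.ker ≤ 2 :=
  card_ker_le_two σ hσ fun p hp h2 k hk => by
    rcases eq_or_ne p 3 with rfl | h3
    · exact order_ne_three σ hσ.1 hσ.2.1 hk (hσ.2.2 hk)
    · exact order_ne_prime σ hσ.1 hσ.2.1 hk (hσ.2.2 hk) hp (by
        have := hp.two_le
        rcases eq_or_ne p 4 with rfl | h4
        · norm_num at hp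
        · omega)

end Cfsg.Lib.OrthMult.Three
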