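import Cfsg.Agent.Lib.OrthMult.Three.Sylow

/-!
# The eight-dimensional minus type over three elements
-/

set_option autoImplicit false
set_option linter.unusedSectionVars false

namespace Cfsg.Lib.OrthMult.Three

open Cfsg.Lib.Linear.Orth
open Cfsg.Lib.OrthMult
open scoped Matrix

universe u

/-- A small model of a finite group mapping onto the group of Siegel elements. -/
theorem stemLeTwo_of_model {G : Type u} [Group G] (e : G ≃* ↥(Root Qt Bt ⊤)) : StemLeTwo G := by
  intro Γ _ _ σ hσ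
  haveI : Small.{0} Γ := small_of_injective (Finite.equivFin Γ).injective
  let m : Shrink.{0} Γ ≃* Γ := Shrink.mulEquiv
  haveI : Finite (Shrink.{0} Γ) := Finite.of_equiv Γ m.symm.toEquiv
  let τ : Shrink.{0} Γ →* ↥(Root Qt Bt ⊤) := (e.toMonoidHom.comp σ).comp m.toMonoidHom
  have hmem : ∀ x, x ∈ τ.ker ↔ m x ∈ σ.ker := fun x => by
    rw [MonoidHom.mem_ker, MonoidHom.mem_ker]
    exact e.map_eq_one_iff
  have hτ : Cfsg.IsStemExtension τ := by
    refine ⟨(e.surjective.comp hσ.1).comp m.surjective, fun x hx => ?_, fun x hx => ?_⟩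
    · refine Subgroup.mem_center_iff.2 fun y => m.injective ?_
      rw [map_mul, map_mul]
      exact Subgroup.mem_center_iff.1 (hσ.2.1 ((hmem x).1 hx)) (m y)
    · have h := hσ.2.2 ((hmem x).1 hx)
      have hmap : (commutator (Shrink.{0} Γ)).map m.toMonoidHom = commutator Γ := by
        rw [commutator_def, commutator_def, Subgroup.map_commutator,
          Subgroup.map_top_of_surjective _ m.surjective]
      rw [← hmap] at h
      obtain ⟨y, hy, hxy⟩ := h
      exact m.injective hxy ▸ hy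
  refine le_of_eq_of_le ?_ (card_ker_le τ hτ)
  exact Nat.card_congr ((m.toEquiv.subtypeEquiv fun x => by rw [hmem]; rfl).symm)

variable {F : Type u} [Field F]

/-- The substitution carrying the standard anisotropic plane to the given one. -/
def shear (a : F) : GL I8 F :=
  ⟨Matrix.transvection (Sum.inr 0) (Sum.inr 1) a, Matrix.transvection (Sum.inr 0) (Sum.inr 1) (-a),
    by rw [Matrix.transvection_mul_transvection_same _ _ (by simp), add_neg_cancel, Matrix.transvection_zero],
    by rw [Matrix.transvection_mul_transvection_same _ _ (by simp), neg_add_cancel, Matrix.transvection_zero]⟩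

theorem shear_act (a : F) (w : I8 → F) :
    (shear a).val *ᵥ w = w + Pi.single (Sum.inr 0) (a * w (Sum.inr 1)) := by
  show Matrix.transvection (Sum.inr 0) (Sum.inr 1) a *ᵥ w = _
  rw [Matrix.transvection, Matrix.add_mulVec, Matrix.one_mulVec, Matrix.single_mulVec]
  congr 1

/-- The group along a ring isomorphism and the substitution. -/
theorem omega_congr (φ : ZMod 3 ≃+* F) (a b : F) (hc : b - a ^ 2 = 1) :
    Nonempty (↥(Cfsg.Omega (ZMod 3) Qt) ≃* ↥(Cfsg.Omega F (Cfsg.quadFormMinus 3 F a b))) := by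
  have h3 : (3 : F) = 0 := by rw [← map_ofNat φ 3, show (3 : ZMod 3) = 0 from rfl, map_zero]
  let e0 : GL I8 (ZMod 3) ≃* GL I8 F :=
    (Units.mapEquiv φ.mapMatrix.toMulEquiv).trans (MulAut.conj (shear a))
  have hv : ∀ (g : GL I8 (ZMod 3)) (v : Vt),
      (e0 g).val *ᵥ ((shear a).val *ᵥ (φ ∘ v)) = (shear a).val *ᵥ (φ ∘ (g.val *ᵥ v)) := fun g v => by
    have hφ : (φ.mapMatrix g.val) *ᵥ (φ ∘ v) = φ ∘ (g.val *ᵥ v) := by
      funext i
      simp [Matrix.mulVec, dotProduct, map_sum]
    rw [← hφ]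
    simp only [e0, MulEquiv.trans_apply, MulAut.conj_apply, Units.val_mul, Matrix.mulVec_mulVec,
      mul_assoc, Units.inv_mul, mul_one]
    rfl
  have hq : ∀ v : Vt, Cfsg.quadFormMinus 3 F a b ((shear a).val *ᵥ (φ ∘ v)) = φ (Qt v) := fun v => by
    rw [shear_act]
    simp only [Qt, Cfsg.quadFormMinus, Function.comp_apply, Pi.add_apply, map_add, map_sum, map_mul,
      map_pow, map_one, map_zero, Pi.single_eq_same]
    simp only [ne_eq, reduceCtorEq, not_false_eq_true, Pi.single_eq_of_ne, add_zero,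
      Sum.inr.injEq, one_ne_zero]
    linear_combination (a * φ (v (Sum.inr 0)) * φ (v (Sum.inr 1)) + a ^ 2 * φ (v (Sum.inr 1)) ^ 2) * h3 +
      φ (v (Sum.inr 1)) ^ 2 * hc
  have hO : ∀ g, e0 g ∈ Cfsg.isometryGroup F (Cfsg.quadFormMinus 3 F a b) ↔
      g ∈ Cfsg.isometryGroup (ZMod 3) Qt := fun g => by
    rw [mem_iso, mem_iso]
    refine ⟨fun h v => φ.injective ?_, fun h v => ?_⟩
    · rw [← hq, ← hq, ← hv, h]
    · obtain ⟨w, rfl⟩ : ∃ w, v = (shear a).val *ᵥ (φ ∘ w) :=
        ⟨φ.symm ∘ ((shear a)⁻¹.val *ᵥ v), by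
          rw [show (φ ∘ (φ.symm ∘ ((shear a)⁻¹.val *ᵥ v))) = (shear a)⁻¹.val *ᵥ v from by funext i; simp,
            Matrix.mulVec_mulVec, Units.mul_inv, Matrix.one_mulVec]⟩
      rw [hv, hq, hq]
      exact congrArg φ (h w)
  let eO : ↥(Cfsg.isometryGroup (ZMod 3) Qt) ≃* ↥(Cfsg.isometryGroup F (Cfsg.quadFormMinus 3 F a b)) :=
    (e0.subgroupMap _).trans (MulEquiv.subgroupCongr (by
      ext x
      obtain ⟨g, rfl⟩ := e0.surjective x
      rw [hO]
      simp))
  exact ⟨(eO.subgroupMap _).trans (MulEquiv.subgroupCongr (by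
    show (commutator _).map _ = commutator _
    rw [commutator_def, commutator_def, Subgroup.map_commutator,
      Subgroup.map_top_of_surjective _ eO.surjective]))⟩

/-- The stem extensions over any field with three elements. -/
theorem stemLeTwo_of_card [Fintype F] (hF : Fintype.card F = 3) (a b : F)
    (hab : ∀ z₁ z₂ : F, z₁ ^ 2 + a * z₁ * z₂ + b * z₂ ^ 2 = 0 → z₁ = 0 ∧ z₂ = 0) :
    StemLeTwo ↥(Cfsg.Omega F (Cfsg.quadFormMinus 3 F a b)) := by
  let φ := ZMod.ringEquivOfPrime F Nat.prime_three hF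
  have h3 : (3 : F) = 0 := by rw [← map_ofNat φ 3, show (3 : ZMod 3) = 0 from rfl, map_zero]
  have hall : ∀ x : F, x = 0 ∨ x = 1 ∨ x = -1 := fun x => by
    obtain ⟨y, rfl⟩ := φ.surjective x
    rcases (show y = 0 ∨ y = 1 ∨ y = -1 by revert y; decide) with rfl | rfl | rfl
    · exact Or.inl (map_zero φ)
    · exact Or.inr (Or.inl (map_one φ))
    · exact Or.inr (Or.inr (by rw [map_neg, map_one]))
  have hc : b - a ^ 2 = 1 := by
    rcases hall (b - a ^ 2) with h | h | h
    · exact absurd (hab a 1 (by linear_combination a ^ 2 * h3 + h)).2 one_ne_zero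
    · exact h
    · exact absurd (hab (a + 1) 1 (by linear_combination (a ^ 2 + a) * h3 + h)).2 one_ne_zero
  obtain ⟨e⟩ := omega_congr φ a b hc
  exact stemLeTwo_of_model (e.symm.trans (omegaEquiv space_t (by rw [card_I8]; norm_num)))

end Cfsg.Lib.OrthMult.Three
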